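import Cfsg.Agent.H915.LD
import Cfsg.Agent.H912.MultChar
import Cfsg.Agent.H147.SzReal
import Cfsg.Agent.S1163

/-!
# S3499, dimension 8: no cores with socle `Sz(8)` over the field of order three (helper744 for helper814)

An element of order 13 of `Sz(8)` is conjugate to its eighth power; over the field of order three the eigenvalues
of a lift are closed under cubes and eighth powers, so there are at least twelve of them.
-/

set_option autoImplicit false
set_option linter.unusedSectionVars false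
set_option linter.unusedVariables false

namespace Cfsg.Agent.H744.EP.SzThree

open Subgroup Matrix Cfsg.Agent.LieRecognition.SzMatrix

section lin

variable {F : Type*} [Field F] [Fintype F] {ι : Type*} [Fintype ι] [DecidableEq ι]

/-- twelve eigenvalues -/
theorem twelve_le (hF : Fintype.card F = 3) {M Y : Matrix ι ι F} (hM : M ^ 13 = 1) (hM1 : M ≠ 1) (hY : IsUnit Y)
    (hYM : Y * M = M ^ 8 * Y) : 12 ≤ Fintype.card ι := by
  classical
  let Ω := AlgebraicClosure F
  have h3F : CharP F 3 := by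
    obtain ⟨p, hp⟩ := CharP.exists F
    obtain ⟨n, hpn, hn⟩ := FiniteField.card F p
    have hpp : p ∣ 3 := by
      rw [← hF, hn]
      exact dvd_pow_self p n.ne_zero
    have : p = 3 := (Nat.prime_dvd_prime_iff_eq hpn Nat.prime_three).1 hpp
    rwa [this] at hp
  have h3 : CharP Ω 3 := charP_of_injective_algebraMap (algebraMap F Ω).injective 3
  have : Fact (Nat.Prime 3) := ⟨Nat.prime_three⟩
  let φ : Matrix ι ι F →+* Matrix ι ι Ω := (algebraMap F Ω).mapMatrix
  set M' : Matrix ι ι Ω := φ M with hM'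
  set Y' : Matrix ι ι Ω := φ Y with hY'
  have h13 : M' ^ 13 = 1 := by rw [hM', ← map_pow, hM, map_one]
  have hM1' : M' ≠ 1 := by
    intro h
    apply hM1
    have h1 : φ M = φ 1 := by rw [map_one]; exact h
    ext i j
    exact (algebraMap F Ω).injective (congrFun (congrFun h1 i) j)
  have hYM' : Y' * M' = M' ^ 8 * Y' := by rw [hM', hY', ← map_pow, ← map_mul, ← map_mul, hYM]
  obtain ⟨Z, hZ⟩ : ∃ Z, Z * Y' = 1 := by
    obtain ⟨u, hu⟩ := hY.map φ
    exact ⟨(u⁻¹ : (Matrix ι ι Ω)ˣ), by rw [hY', ← hu, Units.inv_mul]⟩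
  have hZ' : Y' * Z = 1 := mul_eq_one_comm.1 hZ
  -- the eigenvalues
  let S : Set Ω := {z | ∃ v : ι → Ω, v ≠ 0 ∧ M' *ᵥ v = z • v}
  have hpow : ∀ (z : Ω) (v : ι → Ω), M' *ᵥ v = z • v → ∀ k : ℕ, (M' ^ k) *ᵥ v = z ^ k • v := by
    intro z v hv k
    induction k with
    | zero => rw [pow_zero, pow_zero, Matrix.one_mulVec, one_smul]
    | succ k ih => rw [pow_succ, ← Matrix.mulVec_mulVec, hv, Matrix.mulVec_smul, ih, smul_smul, pow_succ, mul_comm]
  have hcube : ∀ z ∈ S, z ^ 3 ∈ S := by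
    rintro z ⟨v, hv0, hv⟩
    refine ⟨fun i => v i ^ 3, ?_, ?_⟩
    · intro h
      apply hv0
      funext i
      exact pow_eq_zero_iff (by norm_num) |>.1 (congrFun h i)
    · funext i
      have h1 := congrFun hv i
      have h2 := congrArg (fun x : Ω => x ^ 3) h1
      change (∑ j, M' i j * v j) ^ 3 = (z * v i) ^ 3 at h2
      rw [sum_pow_char 3, mul_pow] at h2
      change ∑ j, M' i j * v j ^ 3 = z ^ 3 * v i ^ 3
      rw [← h2]
      refine Finset.sum_congr rfl fun j _ => ?_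
      rw [mul_pow]
      congr 1
      change algebraMap F Ω (M i j) = algebraMap F Ω (M i j) ^ 3
      rw [← map_pow, ← hF, FiniteField.pow_card]
  have height : ∀ z ∈ S, z ^ 8 ∈ S := by
    rintro z ⟨v, hv0, hv⟩
    refine ⟨Z *ᵥ v, ?_, ?_⟩
    · intro h
      apply hv0
      rw [← Matrix.one_mulVec v, ← hZ', ← Matrix.mulVec_mulVec, h, Matrix.mulVec_zero]
    · have h1 : M' * Z = Z * M' ^ 8 := by
        calc M' * Z = (Z * Y') * M' * Z := by rw [hZ, one_mul]
          _ = Z * (Y' * M') * Z := by rw [mul_assoc Z]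
          _ = Z * (M' ^ 8 * Y') * Z := by rw [hYM']
          _ = Z * M' ^ 8 * (Y' * Z) := by simp only [mul_assoc]
          _ = Z * M' ^ 8 := by rw [hZ', mul_one]
      rw [Matrix.mulVec_mulVec, h1, ← Matrix.mulVec_mulVec, hpow z v hv, Matrix.mulVec_smul]
  -- an eigenvalue different from one
  obtain ⟨ζ, hζS, hζ1⟩ : ∃ ζ ∈ S, ζ ≠ 1 := by
    let f : Module.End Ω (ι → Ω) := Matrix.toLin' M'
    let W : Submodule Ω (ι → Ω) := LinearMap.range (f - 1)
    have hW : W ≠ ⊥ := by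
      intro h
      apply hM1'
      have h1 : f - 1 = 0 := LinearMap.range_eq_bot.1 h
      have h2 : Matrix.toLin' M' = Matrix.toLin' 1 := by
        rw [Matrix.toLin'_one]
        exact sub_eq_zero.1 h1
      exact Matrix.toLin'.injective h2
    have hWf : ∀ v ∈ W, f v ∈ W := by
      rintro _ ⟨w, rfl⟩
      refine ⟨f w, ?_⟩
      simp [LinearMap.sub_apply]
    have : Nontrivial W := Submodule.nontrivial_iff_ne_bot.2 hW
    obtain ⟨z, hz⟩ := Module.End.exists_eigenvalue (f.restrict hWf)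
    obtain ⟨v, hv, hv0⟩ := hz.exists_hasEigenvector
    have hv' : f (v : ι → Ω) = z • (v : ι → Ω) := congrArg Subtype.val (Module.End.mem_eigenspace_iff.1 hv)
    have hv0' : (v : ι → Ω) ≠ 0 := fun h => hv0 (Subtype.ext h)
    refine ⟨z, ⟨v, hv0', hv'⟩, ?_⟩
    rintro rfl
    rw [one_smul] at hv'
    obtain ⟨w, hw⟩ := v.2
    have hfw : M' *ᵥ w = w + (v : ι → Ω) := by
      rw [← hw]
      change M' *ᵥ w = w + (M' *ᵥ w - w)
      abel
    have hfv : M' *ᵥ (v : ι → Ω) = v := hv'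
    have hk : ∀ k : ℕ, (M' ^ k) *ᵥ w = w + (k : Ω) • (v : ι → Ω) := by
      intro k
      induction k with
      | zero => rw [pow_zero, Matrix.one_mulVec, Nat.cast_zero, zero_smul, add_zero]
      | succ k ih =>
        rw [pow_succ', ← Matrix.mulVec_mulVec, ih, Matrix.mulVec_add, Matrix.mulVec_smul, hfw, hfv, Nat.cast_succ,
          add_smul, one_smul]
        abel
    have h1 := hk 13
    rw [h13, Matrix.one_mulVec] at h1
    have h2 : ((13 : ℕ) : Ω) • (v : ι → Ω) = 0 := by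
      have := h1.symm
      rwa [add_eq_left] at this
    have h4 : ((13 : ℕ) : Ω) ≠ 0 := by
      rw [Ne, CharP.cast_eq_zero_iff Ω 3]
      norm_num
    exact hv0' ((smul_eq_zero.1 h2).resolve_left h4)
  have hζ13 : ζ ^ 13 = 1 := by
    obtain ⟨v, hv0, hv⟩ := hζS
    have h1 := hpow ζ v hv 13
    rw [h13, Matrix.one_mulVec] at h1
    have h2 : (ζ ^ 13 - 1) • v = 0 := by rw [sub_smul, ← h1, one_smul, sub_self]
    exact sub_eq_zero.1 ((smul_eq_zero.1 h2).resolve_right hv0)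
  have hp13 : Fact (Nat.Prime 13) := ⟨by norm_num⟩
  have hord : orderOf ζ = 13 := orderOf_eq_prime hζ13 hζ1
  have hprim : IsPrimitiveRoot ζ 13 := hord ▸ IsPrimitiveRoot.orderOf ζ
  have hmem : ∀ p : Fin 3 × Fin 4, ζ ^ (3 ^ (p.1 : ℕ) * 8 ^ (p.2 : ℕ)) ∈ S := by
    rintro ⟨a, b⟩
    have h8 : ∀ b : ℕ, ζ ^ (8 ^ b) ∈ S := by
      intro b
      induction b with
      | zero => simpa using hζS
      | succ b ih => rw [pow_succ, pow_mul]; exact height _ ih
    have h3 : ∀ a : ℕ, ζ ^ (3 ^ a * 8 ^ (b : ℕ)) ∈ S := by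
      intro a
      induction a with
      | zero => rw [pow_zero, one_mul]; exact h8 b
      | succ a ih =>
        have h1 : 3 ^ (a + 1) * 8 ^ (b : ℕ) = (3 ^ a * 8 ^ (b : ℕ)) * 3 := by ring
        rw [h1, pow_mul]
        exact hcube _ ih
    exact h3 a
  choose v hv0 hv using hmem
  have hinj : Function.Injective fun p : Fin 3 × Fin 4 => ζ ^ (3 ^ (p.1 : ℕ) * 8 ^ (p.2 : ℕ)) := by
    intro p p' h
    have h1 : ζ ^ (3 ^ (p.1 : ℕ) * 8 ^ (p.2 : ℕ)) = ζ ^ (3 ^ (p'.1 : ℕ) * 8 ^ (p'.2 : ℕ)) := h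
    rw [← pow_mod_orderOf ζ (3 ^ (p.1 : ℕ) * 8 ^ (p.2 : ℕ)), ← pow_mod_orderOf ζ (3 ^ (p'.1 : ℕ) * 8 ^ (p'.2 : ℕ)),
      hord] at h1
    replace h1 := hprim.pow_inj (Nat.mod_lt _ (by norm_num)) (Nat.mod_lt _ (by norm_num)) h1
    clear h
    revert p p'
    decide
  have hli := Module.End.eigenvectors_linearIndependent' (Matrix.toLin' M')
    (fun p : Fin 3 × Fin 4 => ζ ^ (3 ^ (p.1 : ℕ) * 8 ^ (p.2 : ℕ))) hinj v fun p =>
      ⟨Module.End.mem_eigenspace_iff.2 (hv p), hv0 p⟩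
  have hc := hli.fintype_card_le_finrank
  rw [Module.finrank_fintype_fun_eq_card, Fintype.card_prod, Fintype.card_fin, Fintype.card_fin] at hc
  exact hc

end lin

section sz

/-- the elements of order 13 of `Sz(8)` -/
theorem exists_thirteen {K : Type*} [Field K] [Fintype K] (hK : Fintype.card K = 8) :
    ∃ x : ↥(Cfsg.Lie.Sz K 4), orderOf x = 13 ∧ IsConj x (x ^ 8) := by
  have hK' : Fintype.card K = 2 ^ (2 * 1 + 1) := hK
  have h13 : Fact (Nat.Prime 13) := ⟨by norm_num⟩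
  have hcard : 13 ∣ Nat.card ↥(Cfsg.Lie.Sz K 4) := by
    have h1 := (Cfsg.Agent.S1163.result (F := K) (m := 1) le_rfl hK').1
    have h2 : Nat.card ↥(Cfsg.Lie.Sz K 4) = 29120 := by
      refine Eq.trans h1 ?_
      norm_num
    rw [h2]
    norm_num
  obtain ⟨x, hx⟩ := exists_prime_orderOf_dvd_card' 13 hcard
  refine ⟨x, hx, ?_⟩
  have H := good hK'
  have hR : H147.Sz.Real (good hK') := H147.Sz.real le_rfl hK'
  have hx1 : x ≠ 1 := by
    rintro rfl
    rw [orderOf_one] at hx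
    omega
  have hpow : ∀ n : ℕ, x ^ n = 1 → 13 ∣ n := fun n hn => hx ▸ orderOf_dvd_of_pow_eq_one hn
  have htr : H147.Sz.tr x ≠ 0 := by
    intro h0
    rcases H147.Sz.normal_form (good hK') hR hx1 with ⟨k, hk, -⟩ | ⟨-, h⟩
    · rw [h0] at hk
      exact k.ne_zero hk
    · rcases h with ⟨h1, -⟩ | ⟨-, b, hb⟩
      · have := hpow 2 (by rw [sq, h1])
        omega
      · obtain ⟨g, hg⟩ := isConj_iff.1 hb
        have h4 : x ^ 4 = 1 := by
          have h5 : (g * x * g⁻¹) ^ 4 = 1 := by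
            rw [hg]
            have h6 : ((good hK').u 1 b) ^ 4 = ((good hK').u 1 b * (good hK').u 1 b) *
                ((good hK').u 1 b * (good hK').u 1 b) := by rw [← sq, ← sq, ← pow_mul]
            rw [h6, H147.Sz.u_sq, H147.Sz.u_sq, zero_mul, (good hK').u_zero]
          rw [conj_pow] at h5
          have h7 : x ^ 4 = g⁻¹ * (g * x ^ 4 * g⁻¹) * g := by group
          rw [h7, h5]
          group
        have := hpow 4 h4
        omega
  apply H147.Sz.isConj_of_tr (good hK') hR htr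
  have h2 := (good hK').two
  have h8 : x ^ 8 = ((x * x) * (x * x)) * ((x * x) * (x * x)) := by rw [← sq, ← sq, ← sq, ← pow_mul, ← pow_mul]
  rw [h8, H147.Sz.tr_sq h2, H147.Sz.tr_sq h2, H147.Sz.tr_sq h2, ← pow_mul, ← pow_mul]
  have h9 : 2 * 2 * 2 = Fintype.card K := by rw [hK]
  rw [h9, FiniteField.pow_card]

end sz

/-- **No cores with socle `Sz(8)` over the field of order three in dimension eight.** -/
theorem no_sz8_three {F : Type} [Field F] [Fintype F] (hF : Fintype.card F = 3) {ι : Type} [Fintype ι] [DecidableEq ι]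
    (hn : Fintype.card ι = 8) {P : Subgroup (GL ι F)} (hC : Cfsg.Agent.H915.LD.Core P)
    (hT : Cfsg.Agent.H912.Bd.IsSz8 (Cfsg.Agent.H915.LD.Soc P)) : False := by
  obtain ⟨K, iK, iKf, hK, ⟨e⟩⟩ := hT
  obtain ⟨x, hx, hxc⟩ := exists_thirteen hK
  obtain ⟨w, hw⟩ := isConj_iff.1 hxc
  let φ : P →* ↥(Cfsg.Lie.Sz K 4) := e.toMonoidHom.comp (Cfsg.Agent.H915.LD.toSoc P)
  have hsurj : Function.Surjective φ := e.surjective.comp (Cfsg.Agent.H915.LD.toSoc_surjective P)
  -- the kernel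
  have hker : ∀ k : P, φ k = 1 → ∃ s : F, s * s = 1 ∧ ((k : GL ι F) : Matrix ι ι F) = s • (1 : Matrix ι ι F) := by
    intro k hk
    have h1 : k ∈ (Cfsg.Geo.scalars ι F).subgroupOf P := by
      rw [← Cfsg.Agent.H915.LD.ker_comp e]
      exact hk
    rw [Subgroup.mem_subgroupOf, Cfsg.Geo.mem_scalars_iff] at h1
    obtain ⟨c, hc⟩ := h1
    refine ⟨c, ?_, hc⟩
    have h2 := FiniteField.pow_card_sub_one_eq_one (c : F) c.ne_zero
    rw [hF] at h2
    rw [← sq]
    exact h2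
  obtain ⟨i⟩ : Nonempty ι := Fintype.card_pos_iff.1 (by omega)
  have hval : ∀ a b : P, ((a * b : P) : GL ι F).1 = (a : GL ι F).1 * (b : GL ι F).1 := fun a b => rfl
  have hinj : ∀ a b : P, (a : GL ι F).1 = (b : GL ι F).1 → a = b := fun a b h => Subtype.ext (Units.ext h)
  have hker2 : ∀ k : P, φ k = 1 → k * k = 1 := by
    intro k hk
    obtain ⟨s, hs, hks⟩ := hker k hk
    apply hinj
    rw [hval, hks, Matrix.smul_mul, Matrix.one_mul, smul_smul, hs, one_smul]
    rfl
  -- a lift of order 13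
  obtain ⟨g₀, hg₀⟩ := hsurj x
  obtain ⟨y, hy⟩ := hsurj w
  have hx13 : x ^ 13 = 1 := hx ▸ pow_orderOf_eq_one x
  have h26 : g₀ ^ 26 = 1 := by
    have h1 := hker2 (g₀ ^ 13) (by rw [map_pow, hg₀, hx13])
    rw [← pow_add] at h1
    exact h1
  obtain ⟨g, hg, hg13⟩ : ∃ g : P, φ g = x ∧ g ^ 13 = 1 := by
    refine ⟨g₀ ^ 14, ?_, ?_⟩
    · rw [map_pow, hg₀, show 14 = 13 + 1 from rfl, pow_succ, hx13, one_mul]
    · rw [← pow_mul, show 14 * 13 = 26 * 7 from rfl, pow_mul, h26, one_pow]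
  have hy8 : y * g * y⁻¹ = g ^ 8 := by
    obtain ⟨k, hk⟩ : ∃ k, k = y * g * y⁻¹ * (g ^ 8)⁻¹ := ⟨_, rfl⟩
    have hk1 : φ k = 1 := by
      rw [hk, map_mul, map_mul, map_mul, map_inv, map_inv, map_pow, hg, hy, hw, mul_inv_cancel]
    have hk2 := hker2 k hk1
    obtain ⟨s, hs, hks⟩ := hker k hk1
    have hcomm : Commute k (g ^ 8) := by
      apply hinj
      rw [hval, hval, hks, Matrix.smul_mul, Matrix.mul_smul, Matrix.one_mul, Matrix.mul_one]
    have h1 : y * g * y⁻¹ = k * g ^ 8 := by rw [hk, inv_mul_cancel_right]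
    have h2 : (y * g * y⁻¹) ^ 13 = 1 := by rw [conj_pow, hg13, mul_one, mul_inv_cancel]
    rw [h1, hcomm.mul_pow, ← pow_mul, mul_comm 8 13, pow_mul, hg13, one_pow, mul_one] at h2
    have h3 : k = 1 := by
      have h4 : k ^ 13 = (k * k) ^ 6 * k := by rw [← sq, ← pow_mul, ← pow_succ]
      rw [h4, hk2, one_pow, one_mul] at h2
      exact h2
    rw [h1, h3, one_mul]
  have hpw : ∀ n : ℕ, ((g ^ n : P) : GL ι F).1 = (g : GL ι F).1 ^ n := fun n => by
    rw [Subgroup.coe_pow, Units.val_pow_eq_pow_val]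
  have h12 := twelve_le hF (M := (g : GL ι F).1) (Y := (y : GL ι F).1) (by
      rw [← hpw, hg13]
      rfl) (by
      intro h
      have h1 : g = 1 := hinj _ _ h
      rw [h1, map_one] at hg
      rw [← hg, orderOf_one] at hx
      omega) (y : GL ι F).isUnit (by
      rw [← hpw, ← hval, ← hval, ← hy8, inv_mul_cancel_right])
  omega

end Cfsg.Agent.H744.EP.SzThree
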