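import Cfsg.Agent.H744.EP.Loc
import Cfsg.Agent.H587.EP.RowS5842
import Cfsg.Agent.H936.DSClass
import Cfsg.Agent.S0242
import Cfsg.Agent.S0243
import Cfsg.Agent.S0249
import Cfsg.Agent.S0283
import Cfsg.Agent.S0815

/-!
# S3499, own characteristic in dimension 10: `L₃(q)`, `L₄(q) < L₁₀(q)`, `U₃(q)`, `U₄(q) < U₁₀(q)` (helper744, task 6154)

* `r_own` : the number of the groups `A ∩ A^x`, `soc A = L` any simple group of matrices modulo scalars;
* `r_psl`, `r_psu` : the cases `L = PSL_n(F)`, `PSU_n(F, q)`;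
* `own3_sl`, `own4_sl`, `own3_su`, `own4_su`.

`hg : TwoGen.{0}` is S3948 (`H59.EP.twoGen`).
-/

set_option autoImplicit false

namespace Cfsg.Agent.H744.EP

open Module Subgroup Cfsg.Agent.H273.EPU Cfsg.Agent.H419.EP Cfsg.Agent.H59.EP Cfsg.Agent.H284
open scoped MatrixGroups

/-- the number of two-point stabilisers, socle a group of matrices modulo scalars -/
theorem r_own (hg : TwoGen.{0}) {Q : Type*} [Group Q] [Finite Q] {A : Subgroup Q} {Γ : Subgroup (MulAut Q)} (h : EPT A Γ)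
    {L : Type*} [Group L] [Finite L] (hS : HasSoc A L) (hL : IsSimpleGroup L) (hnc : ¬ ∀ a b : L, a * b = b * a) {d : ℕ}
    (hd : Cfsg.Agent.H936.DS d L) {ι : Type} [Fintype ι] [DecidableEq ι] [Nonempty ι] {F : Type*} [Field F] [Finite F]
    {S : Subgroup (GL ι F)} (m : Model L S) (h60 : bd (Fintype.card ι) ≤ 60) {k : ℕ} (hk : Fintype.card ι ≤ 2 * k) :
    {M : Subgroup Q | ∃ x, x ∉ A ∧ M = A ⊓ cj x A}.ncard ≤
      (2 * Nat.card F ^ (Fintype.card ι * k)) ^ (Fintype.card ι - 1) + Nat.card L ^ max 3 (bd (Fintype.card ι)) := by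
  obtain ⟨p, hp⟩ := CharP.exists F
  have hprime : p.Prime := CharP.char_is_prime F p
  exact (Cfsg.Agent.H957.EP.ncard_le_locK_hasSoc h hS hL hnc hd).trans (ncard_locK_le' m hg hprime h60 hk)

/-- the order of `Q` -/
theorem card_le_own {Q : Type*} [Group Q] [Finite Q] (hs : IsSimpleGroup Q) {A : Subgroup Q} {Γ : Subgroup (MulAut Q)}
    (h : EPT A Γ) {L : Type*} [Group L] [Finite L] (hS : HasSoc A L) {c R : ℕ} (hc : Nat.card (MulAut L) ≤ c)
    (hr : {M : Subgroup Q | ∃ x, x ∉ A ∧ M = A ⊓ cj x A}.ncard ≤ R) : Nat.card Q ≤ c * (1 + R * (2 * c)) := by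
  have h1 := Cfsg.Agent.H173.EP.ub1 hs h (μ := 1) one_pos (fun x _ => Nat.card_pos)
  have h2 := hS.card_le.trans hc
  rw [← A.card_mul_index]
  refine Nat.mul_le_mul h2 (h1.trans (Nat.add_le_add_left (Nat.mul_le_mul hr (Nat.mul_le_mul_left _ ?_)) _))
  rw [Nat.div_one]
  exact h2

theorem ncomm_of_center {G : Type*} [Group G] (h : IsSimpleGroup (G ⧸ Subgroup.center G)) :
    ¬ ∀ a b : G ⧸ Subgroup.center G, a * b = b * a := by
  intro hc
  let _ : CommGroup (G ⧸ Subgroup.center G) :=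
    { (inferInstance : Group (G ⧸ Subgroup.center G)) with mul_comm := hc }
  have hcyc : IsCyclic (G ⧸ Subgroup.center G) := IsSimpleGroup.isCyclic
  have h0 : IsMulCommutative G := MonoidHom.isMulCommutative_of_isCyclic_of_ker_le_center
    (QuotientGroup.mk' (Subgroup.center G)) (by rw [QuotientGroup.ker_mk'])
  have h1 : ∀ a b : G, a * b = b * a := h0.is_comm.comm
  obtain ⟨x, hx⟩ := exists_ne (1 : G ⧸ Subgroup.center G)
  obtain ⟨a, rfl⟩ := QuotientGroup.mk_surjective x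
  exact hx ((QuotientGroup.eq_one_iff a).2 (Subgroup.mem_center_iff.2 fun b => h1 b a))

theorem ncomm_psl {F : Type*} [Field F] {n : ℕ} (hn : 3 ≤ n) :
    ¬ ∀ a b : Matrix.ProjectiveSpecialLinearGroup (Fin n) F, a * b = b * a :=
  ncomm_of_center (G := Matrix.SpecialLinearGroup (Fin n) F) (S0249.result n hn)

theorem ncomm_psu {F : Type*} [Field F] [Fintype F] {n q : ℕ} (hF : Fintype.card F = q ^ 2) (hn : 3 ≤ n)
    (h32 : ¬ (n = 3 ∧ q = 2)) : ¬ ∀ a b : Cfsg.PSU n F q, a * b = b * a :=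
  ncomm_of_center (G := Cfsg.SU n F q) (S0283.result hF n hn h32)

/-- the number of two-point stabilisers, socle `PSL_n(F)` -/
theorem r_psl (hg : TwoGen.{0}) {Q : Type*} [Group Q] [Finite Q] {A : Subgroup Q} {Γ : Subgroup (MulAut Q)} (h : EPT A Γ)
    {F : Type*} [Field F] [Finite F] {n : ℕ} (hn : 3 ≤ n) (hS : HasSoc A (Matrix.ProjectiveSpecialLinearGroup (Fin n) F))
    (h60 : bd n ≤ 60) {k : ℕ} (hk : n ≤ 2 * k) :
    {M : Subgroup Q | ∃ x, x ∉ A ∧ M = A ⊓ cj x A}.ncard ≤ (2 * Nat.card F ^ (n * k)) ^ (n - 1) +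
      Nat.card (Matrix.ProjectiveSpecialLinearGroup (Fin n) F) ^ max 3 (bd n) := by
  obtain ⟨m⟩ := Cfsg.Agent.H117.EP.model_PSL (F := F) (n := n) (by omega)
  have : Nonempty (Fin n) := ⟨⟨0, by omega⟩⟩
  have h1 := r_own hg h hS (S0249.result n hn) (ncomm_psl hn) (Cfsg.Agent.H936.ds_psl (by omega)) m
    (by rw [Fintype.card_fin]; exact h60) (k := k) (by rw [Fintype.card_fin]; exact hk)
  rwa [Fintype.card_fin] at h1

/-- the number of two-point stabilisers, socle `PSU_n(q)` -/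
theorem r_psu (hg : TwoGen.{0}) {Q : Type*} [Group Q] [Finite Q] {A : Subgroup Q} {Γ : Subgroup (MulAut Q)} (h : EPT A Γ)
    {F : Type*} [Field F] [Fintype F] {n q : ℕ} (hF : Fintype.card F = q ^ 2) (hn : 3 ≤ n) (h32 : ¬ (n = 3 ∧ q = 2))
    (hS : HasSoc A (Cfsg.PSU n F q)) (h60 : bd n ≤ 60) {k : ℕ} (hk : n ≤ 2 * k) :
    {M : Subgroup Q | ∃ x, x ∉ A ∧ M = A ⊓ cj x A}.ncard ≤ (2 * (q ^ 2) ^ (n * k)) ^ (n - 1) +
      Nat.card (Cfsg.PSU n F q) ^ max 3 (bd n) := by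
  obtain ⟨m⟩ := Cfsg.Agent.H117.EP.model_PSU (n := n) hF hn
  have : Nonempty (Fin n) := ⟨⟨0, by omega⟩⟩
  have h1 := r_own hg h hS (S0283.result hF n hn h32) (ncomm_psu hF hn h32) (Cfsg.Agent.H936.ds_psu hF hn h32) m
    (by rw [Fintype.card_fin]; exact h60) (k := k) (by rw [Fintype.card_fin]; exact hk)
  rwa [Fintype.card_fin, Nat.card_eq_fintype_card, hF] at h1

/-! ### orders -/

theorem two_mul_le_pow {p f : ℕ} (hp : 2 ≤ p) (hf : 1 ≤ f) : 2 * f ≤ p ^ f := by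
  refine le_trans ?_ (Nat.pow_le_pow_left hp f)
  induction f, hf using Nat.le_induction with
  | base => norm_num
  | succ f hf ih =>
    rw [pow_succ]
    omega

theorem exists_pow {q : ℕ} (hq : IsPrimePow q) : ∃ p f : ℕ, p.Prime ∧ 1 ≤ f ∧ q = p ^ f ∧ 2 * f ≤ q := by
  obtain ⟨p, f, hp, hf, rfl⟩ := (isPrimePow_nat_iff q).1 hq
  exact ⟨p, f, hp, hf, rfl, two_mul_le_pow hp.two_le hf⟩

/-- `|SL_n(F)| ≤ |F| ^ (n² - 1)` -/
theorem card_sl_le {F : Type*} [Field F] [Fintype F] {n : ℕ} (hn : 1 ≤ n) :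
    Nat.card (Matrix.SpecialLinearGroup (Fin n) F) ≤ Fintype.card F ^ (n ^ 2 - 1) := by
  have h1 := S0242.result (F := F) rfl n hn
  set q := Fintype.card F with hq
  have hq2 : 2 ≤ q := Fintype.one_lt_card
  obtain ⟨k, rfl⟩ : ∃ k, n = k + 1 := ⟨n - 1, by omega⟩
  rw [Fin.prod_univ_castSucc] at h1
  have h2 : ∏ i : Fin k, (q ^ (k + 1) - q ^ ((i.castSucc : Fin (k + 1)) : ℕ)) ≤ ∏ _i : Fin k, q ^ (k + 1) :=
    Finset.prod_le_prod' fun i _ => Nat.sub_le _ _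
  rw [Finset.prod_const, Finset.card_univ, Fintype.card_fin, ← pow_mul] at h2
  have h3 : q ^ (k + 1) - q ^ ((Fin.last k : Fin (k + 1)) : ℕ) = q ^ k * (q - 1) := by
    rw [Fin.val_last, pow_succ, Nat.mul_sub, mul_one]
  rw [h3] at h1
  have h4 : (q - 1) * Nat.card (Matrix.SpecialLinearGroup (Fin (k + 1)) F) ≤ (q - 1) * q ^ ((k + 1) ^ 2 - 1) := by
    rw [h1]
    calc (∏ i : Fin k, (q ^ (k + 1) - q ^ ((i.castSucc : Fin (k + 1)) : ℕ))) * (q ^ k * (q - 1)) ≤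
        q ^ ((k + 1) * k) * (q ^ k * (q - 1)) := Nat.mul_le_mul_right _ h2
      _ = (q - 1) * q ^ ((k + 1) * k + k) := by rw [pow_add]; ring
      _ = _ := by
        congr 2
        have : (k + 1) ^ 2 = (k + 1) * k + k + 1 := by ring
        rw [this, Nat.add_sub_cancel]
  exact Nat.le_of_mul_le_mul_left h4 (by omega)

theorem card_psl_le {F : Type*} [Field F] [Fintype F] {n : ℕ} (hn : 1 ≤ n) :
    Nat.card (Matrix.ProjectiveSpecialLinearGroup (Fin n) F) ≤ Fintype.card F ^ (n ^ 2 - 1) :=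
  (Nat.card_le_card_of_surjective (QuotientGroup.mk' (Subgroup.center (Matrix.SpecialLinearGroup (Fin n) F)))
    (QuotientGroup.mk'_surjective _)).trans (card_sl_le hn)

/-- `|Aut PSL_n(F)| ≤ |F| ^ n²` -/
theorem card_aut_psl_le {F : Type*} [Field F] [Fintype F] {n : ℕ} (hn : 3 ≤ n) :
    Nat.card (MulAut (Matrix.ProjectiveSpecialLinearGroup (Fin n) F)) ≤ Fintype.card F ^ n ^ 2 := by
  obtain ⟨p, f, hp, hf, hq, h2f⟩ := exists_pow (FiniteField.isPrimePow_card F)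
  have : Fact p.Prime := ⟨hp⟩
  rw [S0813.result p f hf hq n (by omega) (by omega), S0265.result, if_neg (by omega)]
  calc 2 * f * Nat.card (Matrix.SpecialLinearGroup (Fin n) F) ≤ Fintype.card F * Fintype.card F ^ (n ^ 2 - 1) :=
        Nat.mul_le_mul h2f (card_sl_le (by omega))
    _ = Fintype.card F ^ (n ^ 2 - 1 + 1) := (pow_succ' _ _).symm
    _ = _ := by
      congr 1
      have : 0 < n ^ 2 := by positivity
      omega

theorem q_two_le {F : Type*} [Field F] [Fintype F] {q : ℕ} (hF : Fintype.card F = q ^ 2) : 2 ≤ q := by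
  have h1 : 1 < Fintype.card F := Fintype.one_lt_card
  rw [hF] at h1
  by_contra h2
  have h3 : q = 0 ∨ q = 1 := by omega
  rcases h3 with rfl | rfl <;> norm_num at h1

theorem gcd_card_psu_three {F : Type*} [Field F] [Fintype F] {q : ℕ} (hF : Fintype.card F = q ^ 2) :
    Nat.gcd 3 (q + 1) * Nat.card (Cfsg.PSU 3 F q) ≤ q ^ 8 := by
  have hq := q_two_le hF
  have h4 := S0280.result hF 3 (by norm_num)
  simp only [Finset.prod_range_succ, Finset.prod_range_zero, one_mul, Nat.even_iff] at h4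
  norm_num at h4
  have h5 : Nat.gcd 3 (q + 1) * Nat.card (Cfsg.PSU 3 F q) = q ^ 3 * ((q ^ 2 - 1) * (q ^ 3 + 1)) := by
    apply Nat.eq_of_mul_eq_mul_left (show 0 < q + 1 by omega)
    calc (q + 1) * (Nat.gcd 3 (q + 1) * Nat.card (Cfsg.PSU 3 F q)) =
        Nat.gcd 3 (q + 1) * ((q + 1) * Nat.card (Cfsg.PSU 3 F q)) := by ring
      _ = _ := by rw [h4]; ring
  rw [h5]
  have h6 : (q ^ 2 - 1) * (q ^ 3 + 1) ≤ q ^ 5 := by
    have hq2 : 0 < q ^ 2 := by positivity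
    obtain ⟨t, ht⟩ : ∃ t, q ^ 2 = t + 1 := ⟨q ^ 2 - 1, by omega⟩
    have h7 : q ^ 2 ≤ q ^ 3 := Nat.pow_le_pow_right (by omega) (by norm_num)
    have h8 : q ^ 5 = q ^ 2 * q ^ 3 := by ring
    rw [h8, ht, Nat.add_sub_cancel]
    nlinarith
  calc q ^ 3 * ((q ^ 2 - 1) * (q ^ 3 + 1)) ≤ q ^ 3 * q ^ 5 := Nat.mul_le_mul_left _ h6
    _ = q ^ 8 := by ring

theorem gcd_card_psu_four {F : Type*} [Field F] [Fintype F] {q : ℕ} (hF : Fintype.card F = q ^ 2) :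
    Nat.gcd 4 (q + 1) * Nat.card (Cfsg.PSU 4 F q) ≤ q ^ 15 := by
  have hq := q_two_le hF
  have h4 := S0280.result hF 4 (by norm_num)
  simp only [Finset.prod_range_succ, Finset.prod_range_zero, one_mul, Nat.even_iff] at h4
  norm_num at h4
  have h5 : Nat.gcd 4 (q + 1) * Nat.card (Cfsg.PSU 4 F q) = q ^ 6 * ((q ^ 2 - 1) * (q ^ 3 + 1) * (q ^ 4 - 1)) := by
    apply Nat.eq_of_mul_eq_mul_left (show 0 < q + 1 by omega)
    calc (q + 1) * (Nat.gcd 4 (q + 1) * Nat.card (Cfsg.PSU 4 F q)) =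
        Nat.gcd 4 (q + 1) * ((q + 1) * Nat.card (Cfsg.PSU 4 F q)) := by ring
      _ = _ := by rw [h4]; ring
  rw [h5]
  have h6 : (q ^ 2 - 1) * (q ^ 3 + 1) ≤ q ^ 5 := by
    have hq2 : 0 < q ^ 2 := by positivity
    obtain ⟨t, ht⟩ : ∃ t, q ^ 2 = t + 1 := ⟨q ^ 2 - 1, by omega⟩
    have h7 : q ^ 2 ≤ q ^ 3 := Nat.pow_le_pow_right (by omega) (by norm_num)
    have h8 : q ^ 5 = q ^ 2 * q ^ 3 := by ring
    rw [h8, ht, Nat.add_sub_cancel]
    nlinarith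
  calc q ^ 6 * ((q ^ 2 - 1) * (q ^ 3 + 1) * (q ^ 4 - 1)) ≤ q ^ 6 * (q ^ 5 * q ^ 4) :=
        Nat.mul_le_mul_left _ (Nat.mul_le_mul h6 (Nat.sub_le _ _))
    _ = q ^ 15 := by ring

theorem card_le_of_gcd {g l b : ℕ} (hg : 0 < g) (h : g * l ≤ b) : l ≤ b := (Nat.le_mul_of_pos_left _ hg).trans h

/-- `|Aut PSU_n(q)|` -/
theorem card_aut_psu_le {F : Type*} [Field F] [Fintype F] {q : ℕ} (hF : Fintype.card F = q ^ 2) {n e : ℕ} (hn : 3 ≤ n)
    (h32 : ¬ (n = 3 ∧ q = 2)) (hc : Nat.gcd n (q + 1) * Nat.card (Cfsg.PSU n F q) ≤ q ^ e) :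
    Nat.card (MulAut (Cfsg.PSU n F q)) ≤ q ^ (e + 1) := by
  have hq : IsPrimePow q := by
    have h1 := FiniteField.isPrimePow_card F
    rw [hF] at h1
    exact (isPrimePow_pow_iff (by norm_num)).1 h1
  obtain ⟨p, f, hp, hf, hqp, h2f⟩ := exists_pow hq
  have : Fact p.Prime := ⟨hp⟩
  rw [S0815.result p f hf hqp hF n hn h32]
  calc Nat.gcd n (q + 1) * (2 * f) * Nat.card (Cfsg.PSU n F q) =
        (Nat.gcd n (q + 1) * Nat.card (Cfsg.PSU n F q)) * (2 * f) := by ring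
    _ ≤ q ^ e * q := Nat.mul_le_mul hc h2f
    _ = _ := (pow_succ _ _).symm

/-- `|L₁₀(q)|`, `q ≥ 3` -/
theorem card_ten_sl {F : Type*} [Field F] [Fintype F] (hq : 3 ≤ Fintype.card F) {Q : Type*} [Group Q]
    (m : Model Q (Cfsg.Geo.specialLinear (Fin 10) F)) :
    8 ^ 9 * Fintype.card F ^ 99 ≤ 9 ^ 9 * (10 * Nat.card Q) := by
  obtain ⟨m'⟩ := Cfsg.Agent.H117.EP.model_PSL (F := F) (n := 10) (by norm_num)
  obtain ⟨e⟩ := Cfsg.Agent.H587.EP.TenU.equiv_of_models m m'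
  have h1 := S0243.result (F := F) rfl 10 (by norm_num)
  rw [← Nat.card_congr e.toEquiv] at h1
  set q := Fintype.card F with hqd
  rw [Fin.prod_univ_eq_prod_range (fun i => q ^ 10 - q ^ i) 10, Finset.prod_range_succ] at h1
  have h2 : ∏ _i ∈ Finset.range 9, (8 * q ^ 10) ≤ ∏ i ∈ Finset.range 9, (9 * (q ^ 10 - q ^ i)) := by
    refine Finset.prod_le_prod' fun i hi => ?_
    have hi' : i ≤ 8 := by
      have := Finset.mem_range.1 hi
      omega
    have h3 : q ^ i ≤ q ^ 8 := Nat.pow_le_pow_right (by omega) hi'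
    have h4 : 9 * q ^ 8 ≤ q ^ 10 := by
      calc 9 * q ^ 8 = 3 ^ 2 * q ^ 8 := by norm_num
        _ ≤ q ^ 2 * q ^ 8 := Nat.mul_le_mul_right _ (Nat.pow_le_pow_left hq 2)
        _ = _ := by ring
    omega
  rw [Finset.prod_const, Finset.card_range, Finset.prod_mul_distrib, Finset.prod_const, Finset.card_range] at h2
  have h5 : q ^ 10 - q ^ 9 = q ^ 9 * (q - 1) := by rw [Nat.mul_sub, mul_one, ← pow_succ]
  rw [h5] at h1
  have h6 : (q - 1) * (8 ^ 9 * q ^ 99) ≤ (q - 1) * (9 ^ 9 * (10 * Nat.card Q)) := by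
    calc (q - 1) * (8 ^ 9 * q ^ 99) = (8 * q ^ 10) ^ 9 * (q ^ 9 * (q - 1)) := by ring
      _ ≤ (9 ^ 9 * ∏ i ∈ Finset.range 9, (q ^ 10 - q ^ i)) * (q ^ 9 * (q - 1)) := Nat.mul_le_mul_right _ h2
      _ = 9 ^ 9 * (Nat.gcd 10 (q - 1) * ((q - 1) * Nat.card Q)) := by rw [h1]; ring
      _ ≤ 9 ^ 9 * (10 * ((q - 1) * Nat.card Q)) :=
          Nat.mul_le_mul_left _ (Nat.mul_le_mul_right _ (Nat.gcd_le_left _ (by norm_num)))
      _ = _ := by ring
  exact Nat.le_of_mul_le_mul_left h6 (by omega)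

/-- `|U₁₀(q)|`, `q ≥ 3` -/
theorem card_ten_su {F : Type} [Field F] [Fintype F] {q : ℕ} (hF : Fintype.card F = q ^ 2) (hq : 3 ≤ q) {Q : Type}
    [Group Q] (m : Model Q (Cfsg.GU 10 F q ⊓ Cfsg.Geo.specialLinear (Fin 10) F)) :
    8 ^ 9 * q ^ 99 ≤ 9 ^ 9 * (10 * Nat.card Q) := by
  have h1 := Cfsg.Agent.H587.EP.TenU.card_ten hF m
  have ha : ∀ k, 2 ≤ k → 8 * q ^ k ≤ 9 * (q ^ k - 1) := by
    intro k hk
    have h2 : 9 ≤ q ^ k := by
      calc 9 = 3 ^ 2 := by norm_num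
        _ ≤ q ^ 2 := Nat.pow_le_pow_left hq 2
        _ ≤ q ^ k := Nat.pow_le_pow_right (by omega) hk
    omega
  have hb : ∀ k, 2 ≤ k → 8 * q ^ k ≤ 9 * (q ^ k + 1) := by
    intro k hk
    omega
  calc 8 ^ 9 * q ^ 99 = q ^ 45 * ((8 * q ^ 2) * (8 * q ^ 3) * (8 * q ^ 4) * (8 * q ^ 5) * (8 * q ^ 6) * (8 * q ^ 7) *
        (8 * q ^ 8) * (8 * q ^ 9) * (8 * q ^ 10)) := by ring
    _ ≤ q ^ 45 * ((9 * (q ^ 2 - 1)) * (9 * (q ^ 3 + 1)) * (9 * (q ^ 4 - 1)) * (9 * (q ^ 5 + 1)) * (9 * (q ^ 6 - 1)) *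
        (9 * (q ^ 7 + 1)) * (9 * (q ^ 8 - 1)) * (9 * (q ^ 9 + 1)) * (9 * (q ^ 10 - 1))) := by
      refine Nat.mul_le_mul_left _ ?_
      exact Nat.mul_le_mul (Nat.mul_le_mul (Nat.mul_le_mul (Nat.mul_le_mul (Nat.mul_le_mul (Nat.mul_le_mul
        (Nat.mul_le_mul (Nat.mul_le_mul (ha 2 (by norm_num)) (hb 3 (by norm_num))) (ha 4 (by norm_num)))
        (hb 5 (by norm_num))) (ha 6 (by norm_num))) (hb 7 (by norm_num))) (ha 8 (by norm_num))) (hb 9 (by norm_num)))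
        (ha 10 (by norm_num))
    _ = 9 ^ 9 * (q ^ 45 * ((q ^ 2 - 1) * (q ^ 3 + 1) * (q ^ 4 - 1) * (q ^ 5 + 1) * (q ^ 6 - 1) * (q ^ 7 + 1) *
        (q ^ 8 - 1) * (q ^ 9 + 1) * (q ^ 10 - 1))) := by ring
    _ = 9 ^ 9 * (Nat.gcd 10 (q + 1) * Nat.card Q) := by rw [h1]
    _ ≤ _ := Nat.mul_le_mul_left _ (Nat.mul_le_mul_right _ (Nat.gcd_le_left _ (by norm_num)))

/-- the numbers -/
theorem num_ten {q c R n : ℕ} (hq : 3 ≤ q) (hc : c ≤ q ^ 16) (hR : R ≤ 2 * q ^ 60)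
    (hn : 8 ^ 9 * q ^ 99 ≤ 9 ^ 9 * (10 * n)) (hi : n ≤ c * (1 + R * (2 * c))) : False := by
  have h1 : n ≤ 5 * q ^ 92 := by
    calc n ≤ c * (1 + R * (2 * c)) := hi
      _ ≤ q ^ 16 * (1 + 2 * q ^ 60 * (2 * q ^ 16)) :=
          Nat.mul_le_mul hc (Nat.add_le_add_left (Nat.mul_le_mul hR (Nat.mul_le_mul_left _ hc)) _)
      _ = q ^ 16 + 4 * q ^ 92 := by ring
      _ ≤ q ^ 92 + 4 * q ^ 92 := Nat.add_le_add_right (Nat.pow_le_pow_right (by omega) (by norm_num)) _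
      _ = _ := by ring
  have h2 : 3 ^ 7 * q ^ 92 ≤ q ^ 99 := by
    calc 3 ^ 7 * q ^ 92 ≤ q ^ 7 * q ^ 92 := Nat.mul_le_mul_right _ (Nat.pow_le_pow_left hq 7)
      _ = _ := by ring
  have h3 : 0 < q ^ 92 := by positivity
  norm_num at hn h2
  omega

/-- **`L₃(q) < L₁₀(q)`** -/
theorem own3_sl (hg : TwoGen.{0}) {Q : Type} [Group Q] [Finite Q] (hs : IsSimpleGroup Q) {A : Subgroup Q}
    {Γ : Subgroup (MulAut Q)} (h : EPT A Γ) {F : Type} [Field F] [Fintype F] (hq : 3 ≤ Fintype.card F)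
    (m : Model Q (Cfsg.Geo.specialLinear (Fin 10) F))
    (hS : HasSoc A (Matrix.ProjectiveSpecialLinearGroup (Fin 3) F)) : False := by
  have hq0 : 0 < Fintype.card F := by omega
  refine num_ten hq ((card_aut_psl_le (F := F) (n := 3) le_rfl).trans (Nat.pow_le_pow_right hq0 (by norm_num))) ?_
    (card_ten_sl hq m) (card_le_own hs h hS le_rfl (r_psl hg h le_rfl hS (by decide) (k := 2) (by norm_num)))
  have h1 := card_psl_le (F := F) (n := 3) (by norm_num)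
  have h2 : max 3 (bd 3) = 3 := by decide
  rw [h2, Nat.card_eq_fintype_card]
  norm_num at h1 ⊢
  set q := Fintype.card F
  calc (2 * q ^ 6) ^ 2 + Nat.card (Matrix.ProjectiveSpecialLinearGroup (Fin 3) F) ^ 3 ≤ 4 * q ^ 12 + (q ^ 8) ^ 3 := by
        refine Nat.add_le_add (le_of_eq (by ring)) (Nat.pow_le_pow_left h1 3)
    _ ≤ q ^ 2 * q ^ 12 + q ^ 24 := by
        refine Nat.add_le_add (Nat.mul_le_mul_right _ ?_) (le_of_eq (by ring))
        nlinarith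
    _ ≤ q ^ 60 + q ^ 60 := by
        refine Nat.add_le_add ?_ (Nat.pow_le_pow_right hq0 (by norm_num))
        rw [← pow_add]
        exact Nat.pow_le_pow_right hq0 (by norm_num)
    _ = 2 * q ^ 60 := by ring

/-- **`L₄(q) < L₁₀(q)`** -/
theorem own4_sl (hg : TwoGen.{0}) {Q : Type} [Group Q] [Finite Q] (hs : IsSimpleGroup Q) {A : Subgroup Q}
    {Γ : Subgroup (MulAut Q)} (h : EPT A Γ) {F : Type} [Field F] [Fintype F] (hq : 3 ≤ Fintype.card F)
    (m : Model Q (Cfsg.Geo.specialLinear (Fin 10) F))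
    (hS : HasSoc A (Matrix.ProjectiveSpecialLinearGroup (Fin 4) F)) : False := by
  have hq0 : 0 < Fintype.card F := by omega
  refine num_ten hq (card_aut_psl_le (F := F) (n := 4) (by norm_num)) ?_
    (card_ten_sl hq m) (card_le_own hs h hS le_rfl (r_psl hg h (by norm_num) hS (by decide) (k := 2) (by norm_num)))
  have h1 := card_psl_le (F := F) (n := 4) (by norm_num)
  have h2 : max 3 (bd 4) = 4 := by decide
  rw [h2, Nat.card_eq_fintype_card]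
  norm_num at h1 ⊢
  set q := Fintype.card F
  calc (2 * q ^ 8) ^ 3 + Nat.card (Matrix.ProjectiveSpecialLinearGroup (Fin 4) F) ^ 4 ≤ 8 * q ^ 24 + (q ^ 15) ^ 4 := by
        refine Nat.add_le_add (le_of_eq (by ring)) (Nat.pow_le_pow_left h1 4)
    _ ≤ q ^ 2 * q ^ 24 + q ^ 60 := by
        refine Nat.add_le_add (Nat.mul_le_mul_right _ ?_) (le_of_eq (by ring))
        nlinarith
    _ ≤ q ^ 60 + q ^ 60 := by
        refine Nat.add_le_add ?_ le_rfl
        rw [← pow_add]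
        exact Nat.pow_le_pow_right hq0 (by norm_num)
    _ = 2 * q ^ 60 := by ring

/-- **`U₃(q) < U₁₀(q)`** -/
theorem own3_su (hg : TwoGen.{0}) {Q : Type} [Group Q] [Finite Q] (hs : IsSimpleGroup Q) {A : Subgroup Q}
    {Γ : Subgroup (MulAut Q)} (h : EPT A Γ) {F : Type} [Field F] [Fintype F] {q : ℕ} (hF : Fintype.card F = q ^ 2)
    (hq : 3 ≤ q) (m : Model Q (Cfsg.GU 10 F q ⊓ Cfsg.Geo.specialLinear (Fin 10) F)) (hS : HasSoc A (Cfsg.PSU 3 F q)) :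
    False := by
  have hq0 : 0 < q := by omega
  have h32 : ¬ (3 = 3 ∧ q = 2) := by omega
  refine num_ten hq ((card_aut_psu_le hF le_rfl h32 (gcd_card_psu_three hF)).trans
    (Nat.pow_le_pow_right hq0 (by norm_num))) ?_
    (card_ten_su hF hq m) (card_le_own hs h hS le_rfl (r_psu hg h hF le_rfl h32 hS (by decide) (k := 2) (by norm_num)))
  have h1 := card_le_of_gcd (Nat.gcd_pos_of_pos_left _ (by norm_num)) (gcd_card_psu_three hF)
  have h2 : max 3 (bd 3) = 3 := by decide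
  rw [h2]
  norm_num
  calc (2 * (q ^ 2) ^ 6) ^ 2 + Nat.card (Cfsg.PSU 3 F q) ^ 3 ≤ 4 * q ^ 24 + (q ^ 8) ^ 3 := by
        refine Nat.add_le_add (le_of_eq (by ring)) (Nat.pow_le_pow_left h1 3)
    _ ≤ q ^ 2 * q ^ 24 + q ^ 24 := by
        refine Nat.add_le_add (Nat.mul_le_mul_right _ ?_) (le_of_eq (by ring))
        nlinarith
    _ ≤ q ^ 60 + q ^ 60 := by
        refine Nat.add_le_add ?_ (Nat.pow_le_pow_right hq0 (by norm_num))
        rw [← pow_add]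
        exact Nat.pow_le_pow_right hq0 (by norm_num)
    _ = 2 * q ^ 60 := by ring

/-- **`U₄(q) < U₁₀(q)`** -/
theorem own4_su (hg : TwoGen.{0}) {Q : Type} [Group Q] [Finite Q] (hs : IsSimpleGroup Q) {A : Subgroup Q}
    {Γ : Subgroup (MulAut Q)} (h : EPT A Γ) {F : Type} [Field F] [Fintype F] {q : ℕ} (hF : Fintype.card F = q ^ 2)
    (hq : 3 ≤ q) (m : Model Q (Cfsg.GU 10 F q ⊓ Cfsg.Geo.specialLinear (Fin 10) F)) (hS : HasSoc A (Cfsg.PSU 4 F q)) :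
    False := by
  have hq0 : 0 < q := by omega
  have h32 : ¬ (4 = 3 ∧ q = 2) := by omega
  refine num_ten hq (card_aut_psu_le hF (by norm_num) h32 (gcd_card_psu_four hF)) ?_
    (card_ten_su hF hq m) (card_le_own hs h hS le_rfl
      (r_psu hg h hF (by norm_num) h32 hS (by decide) (k := 2) (by norm_num)))
  have h1 := card_le_of_gcd (Nat.gcd_pos_of_pos_left _ (by norm_num)) (gcd_card_psu_four hF)
  have h2 : max 3 (bd 4) = 4 := by decide
  rw [h2]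
  norm_num
  calc (2 * (q ^ 2) ^ 8) ^ 3 + Nat.card (Cfsg.PSU 4 F q) ^ 4 ≤ 8 * q ^ 48 + (q ^ 15) ^ 4 := by
        refine Nat.add_le_add (le_of_eq (by ring)) (Nat.pow_le_pow_left h1 4)
    _ ≤ q ^ 2 * q ^ 48 + q ^ 60 := by
        refine Nat.add_le_add (Nat.mul_le_mul_right _ ?_) (le_of_eq (by ring))
        nlinarith
    _ ≤ q ^ 60 + q ^ 60 := by
        refine Nat.add_le_add ?_ le_rfl
        rw [← pow_add]
        exact Nat.pow_le_pow_right hq0 (by norm_num)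
    _ = 2 * q ^ 60 := by ring

theorem three_le_of_char {p q : ℕ} (hp : p.Prime) {F : Type*} [Field F] [Fintype F] [CharP F p] (h3 : 3 ≤ p)
    (hF : Fintype.card F = q ^ 2) : 3 ≤ q := by
  have : Fact p.Prime := ⟨hp⟩
  obtain ⟨n, hn⟩ := FiniteField.card F p
  rw [hn.2] at hF
  have h1 : p ∣ q ^ 2 := by rw [← hF]; exact dvd_pow_self p n.ne_zero
  have h2 := hp.dvd_of_dvd_pow h1
  have h4 : 0 < q := by
    rcases Nat.eq_zero_or_pos q with rfl | h
    · exfalso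
      have : 0 < p ^ (n : ℕ) := pow_pos hp.pos _
      rw [hF] at this
      norm_num at this
    · exact h
  exact h3.trans (Nat.le_of_dvd h4 h2)

/-- the hypothesis `hown3` of `H587.EP.TenU.row_of` -/
theorem hown3_su (hg : TwoGen.{0}) {Q : Type} [Group Q] [Finite Q] (hs : IsSimpleGroup Q) {A : Subgroup Q}
    {Γ : Subgroup (MulAut Q)} (h : EPT A Γ) {F : Type} [Field F] [Fintype F] {q p : ℕ} (hF : Fintype.card F = q ^ 2)
    (hp : p.Prime) (hFp : CharP F p) (h5 : 5 ≤ p) (m : Model Q (Cfsg.GU 10 F q ⊓ Cfsg.Geo.specialLinear (Fin 10) F))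
    (hS : HasSoc A (Cfsg.PSU 3 F q)) : False :=
  own3_su hg hs h hF (three_le_of_char hp (by omega) hF) m hS

/-- the hypothesis `hown4` of `H587.EP.TenU.row_of` -/
theorem hown4_su (hg : TwoGen.{0}) {Q : Type} [Group Q] [Finite Q] (hs : IsSimpleGroup Q) {A : Subgroup Q}
    {Γ : Subgroup (MulAut Q)} (h : EPT A Γ) {F : Type} [Field F] [Fintype F] {q p : ℕ} (hF : Fintype.card F = q ^ 2)
    (hp : p.Prime) (hFp : CharP F p) (h3 : 3 ≤ p) (m : Model Q (Cfsg.GU 10 F q ⊓ Cfsg.Geo.specialLinear (Fin 10) F))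
    (hS : HasSoc A (Cfsg.PSU 4 F q)) : False :=
  own4_su hg hs h hF (three_le_of_char hp h3 hF) m hS

end Cfsg.Agent.H744.EP
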