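import Cfsg.Agent.H744.EP.Ten

/-!
# S3499: the hypotheses `own3`, `own4` of the row S5839 (`H837.EP.L10Row.row`) (helper744)
-/

set_option autoImplicit false

namespace Cfsg.Agent.H744.EP

open Cfsg.Agent.H419.EP Cfsg.Agent.H59.EP Cfsg.Agent.H284

theorem three_le_card {p : ℕ} (hp : p.Prime) {F : Type*} [Field F] [Fintype F] (hF : CharP F p) (h3 : 3 ≤ p) :
    3 ≤ Fintype.card F := by
  have : Fact p.Prime := ⟨hp⟩
  obtain ⟨n, hn⟩ := FiniteField.card F p
  rw [hn.2]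
  exact h3.trans (Nat.le_self_pow n.ne_zero p)

/-- the hypothesis `own3` of `H837.EP.L10Row.row` -/
theorem hown3_sl (hg : TwoGen.{0}) {Q : Type} [Group Q] [Finite Q] (hs : IsSimpleGroup Q) {A : Subgroup Q}
    {Γ : Subgroup (MulAut Q)} (h : EPT A Γ) {F : Type} [Field F] [Fintype F]
    (m : Model Q (Cfsg.Geo.specialLinear (Fin 10) F)) :
    ∀ p : ℕ, p.Prime → CharP F p → 5 ≤ p → HasSoc A (Matrix.ProjectiveSpecialLinearGroup (Fin 3) F) → False :=
  fun _ hp hF h5 hS => own3_sl hg hs h (three_le_card hp hF (by omega)) m hS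

/-- the hypothesis `own4` of `H837.EP.L10Row.row` -/
theorem hown4_sl (hg : TwoGen.{0}) {Q : Type} [Group Q] [Finite Q] (hs : IsSimpleGroup Q) {A : Subgroup Q}
    {Γ : Subgroup (MulAut Q)} (h : EPT A Γ) {F : Type} [Field F] [Fintype F]
    (m : Model Q (Cfsg.Geo.specialLinear (Fin 10) F)) :
    ∀ p : ℕ, p.Prime → CharP F p → 3 ≤ p → HasSoc A (Matrix.ProjectiveSpecialLinearGroup (Fin 4) F) → False :=
  fun _ hp hF h3 hS => own4_sl hg hs h (three_le_card hp hF h3) m hS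

end Cfsg.Agent.H744.EP
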