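import Cfsg.Agent.H744.EP.Chain
import Cfsg.Agent.H957.EP.InfNeBot
import Cfsg.Agent.H59.EP.CountG

/-!
# S3499: the number of the members of `LocK L`, `L` a group of matrices modulo scalars (helper744)

`ncard_locK_le` : `Model L S`, `S ≤ GL_n(F)`, `F` finite, `n ≤ 60`, `n ≤ 2 k`:
`|LocK L| ≤ (2 |F| ^ (n k)) ^ (n - 1) + |L| ^ (max 3 (bd n))`.
-/

set_option autoImplicit false
set_option linter.unusedSectionVars false

namespace Cfsg.Agent.H744.EP

open Module Subgroup Cfsg.Agent.H273.EPU Cfsg.Agent.H419.EP Cfsg.Agent.H59.EP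
open scoped MatrixGroups commutatorElement

/-! ### generators -/

/-- the subgroups generated by `d` elements -/
def GenBy (d : ℕ) (L : Type*) [Group L] : Set (Subgroup L) := {X | ∃ f : Fin d → L, closure (Set.range f) = X}

theorem ncard_genBy_le (d : ℕ) (L : Type*) [Group L] [Finite L] : (GenBy d L).ncard ≤ Nat.card L ^ d := by
  have h1 : (GenBy d L).ncard ≤ Nat.card (Fin d → L) := by
    have : GenBy d L = Set.range (fun f : Fin d → L => closure (Set.range f)) := rfl
    rw [this, ← Nat.card_coe_set_eq]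
    exact Finite.card_range_le _
  refine h1.trans (le_of_eq ?_)
  rw [Nat.card_pi, Finset.prod_const, Finset.card_univ, Fintype.card_fin]

theorem genBy_mono {d e : ℕ} (h : d ≤ e) {L : Type*} [Group L] {X : Subgroup L} (hX : X ∈ GenBy d L) :
    X ∈ GenBy e L := by
  obtain ⟨f, rfl⟩ := hX
  refine ⟨fun i => if hi : (i : ℕ) < d then f ⟨i, hi⟩ else 1, ?_⟩
  apply le_antisymm
  · rw [closure_le]
    rintro _ ⟨i, rfl⟩
    show (if hi : (i : ℕ) < d then f ⟨i, hi⟩ else 1) ∈ closure (Set.range f)
    split_ifs with hi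
    · exact subset_closure ⟨_, rfl⟩
    · exact one_mem _
  · rw [closure_le]
    rintro _ ⟨i, rfl⟩
    refine subset_closure ⟨⟨i, i.2.trans_le h⟩, ?_⟩
    show (if hi : (i : ℕ) < d then f ⟨i, hi⟩ else 1) = f i
    rw [dif_pos i.2]

/-- a group of order at most `s ^ d` is generated by `d` elements, if its subgroups have order a power of `s` -/
theorem genBy_of_card {L : Type*} [Group L] [Finite L] {s : ℕ} (hs : s.Prime) {X : Subgroup L} (hX : IsPGroup s X)
    {d : ℕ} (hc : Nat.card X ≤ s ^ d) : X ∈ GenBy d L := by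
  have := Fact.mk hs
  have key : ∀ d : ℕ, ∃ f : Fin d → L, closure (Set.range f) = X ∨
      (closure (Set.range f) ≤ X ∧ s ^ d ≤ Nat.card (closure (Set.range f))) := by
    intro d
    induction d with
    | zero =>
      refine ⟨fun i => i.elim0, Or.inr ⟨?_, ?_⟩⟩
      · rw [closure_le]
        rintro _ ⟨i, _⟩
        exact i.elim0
      · rw [pow_zero]
        exact Nat.card_pos
    | succ d ih =>
      obtain ⟨f, hf⟩ := ih
      by_cases hfX : closure (Set.range f) = X
      · obtain ⟨g, hg⟩ := genBy_mono (Nat.le_succ d) (X := X) ⟨f, hfX⟩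
        exact ⟨g, Or.inl hg⟩
      rcases hf with hf | ⟨h1, h2⟩
      · exact absurd hf hfX
      obtain ⟨x, hxX, hxn⟩ := SetLike.exists_of_lt (lt_of_le_of_ne h1 hfX)
      refine ⟨Fin.snoc f x, Or.inr ⟨?_, ?_⟩⟩
      · rw [closure_le]
        rintro _ ⟨i, rfl⟩
        induction i using Fin.lastCases with
        | last => rw [Fin.snoc_last]; exact hxX
        | cast i => rw [Fin.snoc_castSucc]; exact h1 (subset_closure ⟨i, rfl⟩)
      · have hle : closure (Set.range f) ≤ closure (Set.range (Fin.snoc f x : Fin (d + 1) → L)) := by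
          rw [closure_le]
          rintro _ ⟨i, rfl⟩
          exact subset_closure ⟨i.castSucc, Fin.snoc_castSucc (α := fun _ => L) x f i⟩
        have hx : x ∈ closure (Set.range (Fin.snoc f x : Fin (d + 1) → L)) :=
          subset_closure ⟨Fin.last d, Fin.snoc_last (α := fun _ => L) x f⟩
        have hle' : closure (Set.range (Fin.snoc f x : Fin (d + 1) → L)) ≤ X := by
          rw [closure_le]
          rintro _ ⟨i, rfl⟩
          induction i using Fin.lastCases with
          | last => rw [Fin.snoc_last]; exact hxX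
          | cast i => rw [Fin.snoc_castSucc]; exact h1 (subset_closure ⟨i, rfl⟩)
        have hp2 := hX.to_le hle'
        have hp1 := hX.to_le h1
        obtain ⟨a, ha⟩ := IsPGroup.iff_card.1 hp1
        obtain ⟨b, hb⟩ := IsPGroup.iff_card.1 hp2
        have hlt : Nat.card (closure (Set.range f)) < Nat.card (closure (Set.range (Fin.snoc f x : Fin (d + 1) → L))) := by
          refine lt_of_le_of_ne (Subgroup.card_le_of_le hle) fun e => hxn ?_
          have := Subgroup.eq_of_le_of_card_ge hle e.ge
          rw [this]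
          exact hx
        rw [ha] at h2
        rw [ha, hb, Nat.pow_lt_pow_iff_right hs.one_lt] at hlt
        rw [Nat.pow_le_pow_iff_right hs.one_lt] at h2
        rw [hb, Nat.pow_le_pow_iff_right hs.one_lt]
        omega
  obtain ⟨f, hf | ⟨h1, h2⟩⟩ := key d
  · exact ⟨f, hf⟩
  · exact ⟨f, Subgroup.eq_of_le_of_card_ge h1 (hc.trans h2)⟩

/-! ### the representation of a model -/

section model

variable {L : Type*} [Group L] {ι : Type} [Fintype ι] [DecidableEq ι] {F : Type*} [Field F] {S : Subgroup (GL ι F)}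

/-- the natural representation of `S` over an extension field -/
noncomputable def srE (E : Type*) [Field E] [Algebra F E] (S : Subgroup (GL ι F)) : S →* Module.End E (ι → E) :=
  ((Matrix.toLinAlgEquiv' : Matrix ι ι E ≃ₐ[E] ((ι → E) →ₗ[E] (ι → E))).toMonoidHom.comp
    ((algebraMap F E).mapMatrix.toMonoidHom.comp ((Units.coeHom (Matrix ι ι F)).comp S.subtype)))

theorem srE_apply (E : Type*) [Field E] [Algebra F E] (s : S) (v : ι → E) :
    srE E S s v = Matrix.mulVec (((s : GL ι F) : Matrix ι ι F).map (algebraMap F E)) v := rfl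

theorem srE_scalar {E : Type*} [Field E] [Algebra F E] {s : S} (hs : (s : GL ι F) ∈ Cfsg.Geo.scalars ι F) :
    ∃ c : E, c ≠ 0 ∧ ∀ v, srE E S s v = c • v := by
  obtain ⟨c, hc⟩ := (Cfsg.Geo.mem_scalars_iff _).1 hs
  refine ⟨algebraMap F E c, fun h => c.ne_zero ((map_eq_zero_iff _ (algebraMap F E).injective).1 h), fun v => ?_⟩
  rw [srE_apply, hc]
  have : ((c : F) • (1 : Matrix ι ι F)).map (algebraMap F E) = algebraMap F E c • (1 : Matrix ι ι E) := by
    ext i j
    rw [Matrix.map_apply, Matrix.smul_apply, Matrix.smul_apply, smul_eq_mul, smul_eq_mul, map_mul]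
    congr 1
    by_cases h : i = j
    · subst h
      simp
    · simp [Matrix.one_apply_ne h]
  rw [this, Matrix.smul_mulVec, Matrix.one_mulVec]

theorem scalar_of_srE [Nonempty ι] {E : Type*} [Field E] [Algebra F E] {s : S} {c : E} (h : ∀ v, srE E S s v = c • v) :
    (s : GL ι F) ∈ Cfsg.Geo.scalars ι F := by
  have hent : ∀ i j, algebraMap F E (((s : GL ι F) : Matrix ι ι F) i j) = if i = j then c else 0 := by
    intro i j
    have h1 := congrFun (h (Pi.single j 1)) i
    rw [srE_apply, Matrix.mulVec_single_one] at h1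
    rw [Pi.smul_apply, smul_eq_mul] at h1
    have h2 : (((s : GL ι F) : Matrix ι ι F).map (algebraMap F E)).col j i =
        algebraMap F E (((s : GL ι F) : Matrix ι ι F) i j) := rfl
    rw [h2] at h1
    rw [h1]
    split_ifs with hij
    · subst hij
      rw [Pi.single_eq_same, mul_one]
    · rw [Pi.single_eq_of_ne hij, mul_zero]
  obtain ⟨i0⟩ := ‹Nonempty ι›
  set d := ((s : GL ι F) : Matrix ι ι F) i0 i0 with hd
  have hdc : algebraMap F E d = c := by
    rw [hent, if_pos rfl]
  have hM : ((s : GL ι F) : Matrix ι ι F) = d • (1 : Matrix ι ι F) := by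
    ext i j
    apply (algebraMap F E).injective
    rw [hent, Matrix.smul_apply, smul_eq_mul, map_mul, hdc]
    split_ifs with hij
    · subst hij
      rw [Matrix.one_apply_eq, map_one, mul_one]
    · rw [Matrix.one_apply_ne hij, map_zero, mul_zero]
  have hd0 : d ≠ 0 := by
    intro h0
    rw [h0, zero_smul] at hM
    have h1 : ((s : GL ι F) : Matrix ι ι F) * (((s : GL ι F)⁻¹ : GL ι F) : Matrix ι ι F) = 1 := by
      rw [← Units.val_mul, mul_inv_cancel, Units.val_one]
    rw [hM, zero_mul] at h1
    have h2 := congrFun (congrFun h1 i0) i0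
    rw [Matrix.zero_apply, Matrix.one_apply_eq] at h2
    exact zero_ne_one h2
  exact (Cfsg.Geo.mem_scalars_iff _).2 ⟨Units.mk0 d hd0, hM⟩

theorem srE_injective : Function.Injective (srE F S) := by
  intro s t h
  apply Subtype.ext
  apply Units.ext
  have h1 : ((s : GL ι F) : Matrix ι ι F).map (algebraMap F F) = ((t : GL ι F) : Matrix ι ι F).map (algebraMap F F) :=
    Matrix.toLinAlgEquiv'.injective h
  rw [Algebra.algebraMap_self] at h1
  exact h1

theorem dat (m : Model L S) : Dat (srE F S) m.π where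
  inj := srE_injective
  surj := m.surj
  ker := fun h hh => by
    obtain ⟨c, _, hc⟩ := srE_scalar (E := F) ((m.ker h).1 hh)
    exact ⟨c, hc⟩

/-- **elementary abelian `s`-subgroups**, `s ≠ char F` -/
theorem card_elab_le [Finite F] [Nonempty ι] (m : Model L S) {s : ℕ} (hs : s.Prime) (hsF : (s : F) ≠ 0) {X : Subgroup L}
    (hX : ElAb s X) : Nat.card X ≤ s ^ bd (Fintype.card ι) := by
  set E := AlgebraicClosure F with hE
  have hfinGL : Finite (GL ι F) := inferInstance
  have hfinS : Finite S := inferInstance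
  set G := X.comap m.π with hG
  let ρ : G →* Module.End E (ι → E) := (srE E S).comp G.subtype
  have hsE : (s : E) ≠ 0 := by
    intro h
    apply hsF
    apply (algebraMap F E).injective
    rw [map_natCast, h, map_zero]
  have hpi : ∀ g : G, m.π (g : S) ∈ X := fun g => g.2
  have hidx := index_le hs hsE (Fintype.card ι) G (ι → E) ρ (Module.finrank_fintype_fun_eq_card E) Fintype.card_pos
    (by
      intro g h
      have h1 : m.π ((g : S) * h) = m.π ((h : S) * g) := by
        rw [map_mul, map_mul]
        exact hX.comm _ (hpi g) _ (hpi h)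
      have h2 : m.π (((h : S) * g)⁻¹ * ((g : S) * h)) = 1 := by rw [map_mul, map_inv, h1, inv_mul_cancel]
      obtain ⟨c, hc0, hc⟩ := srE_scalar (E := E) ((m.ker _).1 h2)
      refine ⟨c, fun v => ?_⟩
      show srE E S (g : S) (srE E S (h : S) v) = c • srE E S (h : S) (srE E S (g : S) v)
      rw [← Module.End.mul_apply, ← Module.End.mul_apply, ← map_mul, ← map_mul, ← map_smul, ← hc, ← Module.End.mul_apply,
        ← map_mul, mul_inv_cancel_left])
    (by
      intro g
      have h1 : m.π ((g : S) ^ s) = 1 := by rw [map_pow]; exact hX.exp _ (hpi g)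
      obtain ⟨c, hc0, hc⟩ := srE_scalar (E := E) ((m.ker _).1 h1)
      refine ⟨c, hc0, fun v => ?_⟩
      rw [← map_pow]
      exact hc v)
  let f : G →* X := m.π.subgroupComap X
  have hf : Function.Surjective f := by
    rintro ⟨y, hy⟩
    obtain ⟨h, rfl⟩ := m.surj y
    exact ⟨⟨h, hy⟩, rfl⟩
  have hker : Sc ρ ≤ f.ker := by
    rintro g ⟨c, _, hc⟩
    rw [MonoidHom.mem_ker]
    apply Subtype.ext
    exact (m.ker _).2 (scalar_of_srE (s := (g : S)) hc)
  have h1 : f.ker.index = Nat.card X := by
    rw [Subgroup.index_ker, MonoidHom.range_eq_top.2 hf, Subgroup.card_top]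
  rw [← h1]
  exact (Subgroup.index_antitone hker).trans hidx

theorem genBy_of_hom {G : Type*} [Group G] {d : ℕ} (f : G →* L) {X : Subgroup L} (hf : f.range = X) {g : Fin d → G}
    (hg : closure (Set.range g) = ⊤) : X ∈ GenBy d L := by
  refine ⟨f ∘ g, ?_⟩
  rw [Set.range_comp, ← MonoidHom.map_closure, hg, ← MonoidHom.range_eq_map, hf]

/-- a group which is no `p`-group has an element of prime order `s ≠ p` -/
theorem exists_prime_ne {T : Type*} [Group T] [Finite T] {p : ℕ} (hp : p.Prime) (hT : ¬ IsPGroup p T) :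
    ∃ s : ℕ, s.Prime ∧ s ≠ p ∧ ∃ t : T, orderOf t = s := by
  have := Fact.mk hp
  by_contra hcon
  push Not at hcon
  apply hT
  have h1 : ∀ {d : ℕ}, d.Prime → d ∣ Nat.card T → d = p := by
    intro d hd hdd
    by_contra hne
    have := Fact.mk hd
    obtain ⟨t, ht⟩ := exists_prime_orderOf_dvd_card' d hdd
    exact hcon d hd hne t ht
  have h2 := Nat.eq_prime_pow_of_unique_prime_dvd (Nat.card_pos (α := T)).ne' h1
  exact IsPGroup.of_card h2

/-- **characteristically simple subgroups** which are no `p`-groups are generated by `max 3 (bd n)` elements -/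
theorem genBy_of_char_simple [Finite F] [Nonempty ι] [Finite L] (m : Model L S) (hg : TwoGen.{0}) {p : ℕ} (hp : p.Prime)
    [CharP F p] {X : Subgroup L} (hX : X ≠ ⊥) (hc : ∀ Y : Subgroup X, Y.Characteristic → Y = ⊥ ∨ Y = ⊤)
    (hnp : ¬ IsPGroup p X) (h60 : bd (Fintype.card ι) ≤ 60) : X ∈ GenBy (max 3 (bd (Fintype.card ι))) L := by
  classical
  have hXn : Nontrivial X := (Subgroup.nontrivial_iff_ne_bot X).2 hX
  have hsF : ∀ s : ℕ, s.Prime → s ≠ p → (s : F) ≠ 0 := by
    intro s hs hne h0
    exact hne ((Nat.prime_dvd_prime_iff_eq hp hs).1 ((CharP.cast_eq_zero_iff F p s).1 h0)).symm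
  by_cases hcomm : ∀ a b : X, a * b = b * a
  · obtain ⟨s, hs, hsd, hel⟩ := elab_of_comm hc hcomm
    have hXs : IsPGroup s X := by
      intro a
      refine ⟨1, ?_⟩
      rw [pow_one]
      exact hel.exp a (mem_top _)
    have hsp : s ≠ p := by
      rintro rfl
      exact hnp hXs
    have hel' : ElAb s X := ⟨fun a ha b hb => Subtype.ext_iff.1 (hel.comm ⟨a, ha⟩ (mem_top _) ⟨b, hb⟩ (mem_top _)),
      fun a ha => Subtype.ext_iff.1 (hel.exp ⟨a, ha⟩ (mem_top _))⟩
    exact genBy_mono (le_max_right _ _) (genBy_of_card hs hXs (card_elab_le m hs (hsF s hs hsp) hel'))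
  · obtain ⟨T, hT1, hT2, n, hn, ⟨e⟩⟩ := Cfsg.Agent.S5914.result.1 hc
    have h0 : 0 < n := by omega
    have hTf : Finite T := Finite.of_injective (fun t : T => e.symm (Pi.mulSingle ⟨0, h0⟩ t)) fun t s h =>
      Pi.mulSingle_injective _ (e.symm.injective h)
    have hTc : ¬ ∀ a b : T, a * b = b * a := by
      intro h
      apply hcomm
      intro a b
      apply e.injective
      rw [map_mul, map_mul]
      ext i
      exact h _ _
    have hTs : ¬ Group.IsSolvable T := by
      intro h
      have h1 : commutator T < ⊤ := Group.IsSolvable.commutator_lt_top_of_nontrivial T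
      rcases hT2.eq_bot_or_eq_top_of_normal (commutator T) inferInstance with h2 | h2
      · apply hTc
        intro a b
        have h1 : ⁅a, b⁆ ∈ commutator T := commutator_mem_commutator (mem_top _) (mem_top _)
        rw [h2, mem_bot, commutatorElement_eq_one_iff_mul_comm] at h1
        exact h1
      · exact h1.ne h2
    have h60' := Cfsg.Agent.H168.NoSolv.sixty_le hTs
    have hTp : ¬ IsPGroup p T := by
      intro h
      have := Fact.mk hp
      have hnil : Group.IsNilpotent T := h.isNilpotent
      exact hTs inferInstance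
    obtain ⟨s, hs, hsp, t, ht⟩ := exists_prime_ne hp hTp
    -- the bound for `n`
    have hnb : n ≤ bd (Fintype.card ι) := by
      let g : X →* L := X.subtype
      let E₀ : Subgroup (Fin n → T) := Subgroup.pi Set.univ fun _ => zpowers t
      have hE₀ : ∀ x, x ∈ E₀ ↔ ∀ i, x i ∈ zpowers t := fun x => by
        simp [E₀, Subgroup.mem_pi]
      set E := (E₀.map e.symm.toMonoidHom).map X.subtype with hE
      have hcard : Nat.card E = s ^ n := by
        have h1 : Nat.card E = Nat.card E₀ := by
          rw [hE, Subgroup.map_map]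
          exact (Nat.card_congr (E₀.equivMapOfInjective (X.subtype.comp e.symm.toMonoidHom)
            (X.subtype_injective.comp e.symm.injective)).toEquiv).symm
        have h2 : Nat.card E₀ = Nat.card (Fin n → zpowers t) :=
          Nat.card_congr
            { toFun := fun x i => ⟨(x : Fin n → T) i, (hE₀ x).1 x.2 i⟩
              invFun := fun y => ⟨fun i => y i, (hE₀ _).2 fun i => (y i).2⟩
              left_inv := fun x => rfl
              right_inv := fun y => rfl }
        rw [h1, h2, Nat.card_pi, Finset.prod_const, Finset.card_univ, Fintype.card_fin, Nat.card_zpowers, ht]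
      have hel : ElAb s E := by
        constructor
        · rintro _ ⟨_, ⟨x, hx, rfl⟩, rfl⟩ _ ⟨_, ⟨y, hy, rfl⟩, rfl⟩
          have hxy : x * y = y * x := by
            ext i
            obtain ⟨a, ha⟩ := mem_zpowers_iff.1 ((hE₀ x).1 hx i)
            obtain ⟨b, hb⟩ := mem_zpowers_iff.1 ((hE₀ y).1 hy i)
            show x i * y i = y i * x i
            rw [← ha, ← hb, ← zpow_add, ← zpow_add, add_comm]
          show X.subtype (e.symm x) * X.subtype (e.symm y) = X.subtype (e.symm y) * X.subtype (e.symm x)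
          rw [← map_mul, ← map_mul, hxy, map_mul, map_mul]
        · rintro _ ⟨_, ⟨x, hx, rfl⟩, rfl⟩
          have hxs : x ^ s = 1 := by
            ext i
            obtain ⟨a, ha⟩ := mem_zpowers_iff.1 ((hE₀ x).1 hx i)
            show x i ^ s = 1
            rw [← ha, ← zpow_natCast, ← zpow_mul, mul_comm, zpow_mul, zpow_natCast, ← ht, pow_orderOf_eq_one, one_zpow]
          show X.subtype (e.symm x) ^ s = 1
          rw [← map_pow, ← map_pow, hxs, map_one, map_one]
      have h1 := card_elab_le m hs (hsF s hs hsp) hel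
      rw [hcard, Nat.pow_le_pow_iff_right hs.one_lt] at h1
      exact h1
    obtain ⟨a, b, hab⟩ := hg T
    refine genBy_mono (le_max_left _ _) ?_
    rcases Nat.lt_or_ge n 2 with h2 | h2
    · obtain rfl : n = 1 := by omega
      let E : T ≃* X := (MulEquiv.piUnique (fun _ : Fin 1 => T)).symm.trans e.symm
      refine genBy_mono (d := 2) (by norm_num) (genBy_of_hom (X.subtype.comp E.toMonoidHom) ?_ (g := ![a, b]) ?_)
      · rw [MonoidHom.range_comp, MonoidHom.range_eq_top.2 E.surjective, ← MonoidHom.range_eq_map, X.range_subtype]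
      · rw [eq_top_iff, ← hab, closure_le]
        rintro x (rfl | rfl)
        · exact subset_closure ⟨0, rfl⟩
        · exact subset_closure ⟨1, rfl⟩
    · have hemb : Nonempty (Fin n ↪ T) := by
        have : Fintype T := Fintype.ofFinite T
        apply Function.Embedding.nonempty_of_card_le
        rw [Fintype.card_fin, ← Nat.card_eq_fintype_card]
        omega
      obtain ⟨x⟩ := hemb
      have h3 := closure_triple (ι := Fin n) hTc hab x.injective
      refine genBy_of_hom (X.subtype.comp e.symm.toMonoidHom) ?_ (g := ![(fun _ => a), (fun _ => b), x]) ?_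
      · rw [MonoidHom.range_comp, MonoidHom.range_eq_top.2 e.symm.surjective, ← MonoidHom.range_eq_map, X.range_subtype]
      · rw [eq_top_iff, ← h3, closure_le]
        rintro y (rfl | rfl | rfl)
        · exact subset_closure ⟨0, rfl⟩
        · exact subset_closure ⟨1, rfl⟩
        · exact subset_closure ⟨2, rfl⟩

theorem mem_normalizer_of {L : Type*} [Group L] [Finite L] {Y : Subgroup L} {b : L} (h : ∀ k ∈ Y, b * k * b⁻¹ ∈ Y) :
    b ∈ normalizer (Y : Set L) := by
  have hle : Y.map (MulAut.conj b).toMonoidHom ≤ Y := by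
    rintro _ ⟨k, hk, rfl⟩
    exact h k hk
  have heq : Y.map (MulAut.conj b).toMonoidHom = Y :=
    Subgroup.eq_of_le_of_card_ge hle (by
      rw [Nat.card_congr (Y.equivMapOfInjective (MulAut.conj b).toMonoidHom (MulAut.conj b).injective).toEquiv])
  rw [mem_normalizer_iff]
  intro k
  refine ⟨h k, fun hk => ?_⟩
  rw [← heq] at hk
  obtain ⟨k', hk', e⟩ := hk
  have e' : b * k' * b⁻¹ = b * k * b⁻¹ := e
  have : k' = k := mul_left_cancel (mul_right_cancel e')
  rw [← this]
  exact hk'

/-- the members `K` of `LocK L` with `O_p(K) = 1` -/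
theorem ncard_locP'_le [Finite F] [Nonempty ι] [Finite L] (m : Model L S) (hg : TwoGen.{0}) {p : ℕ} (hp : p.Prime)
    [CharP F p] (h60 : bd (Fintype.card ι) ≤ 60) :
    {K | K ∈ LocK L ∧ Cfsg.pCore p K = ⊥}.ncard ≤ Nat.card L ^ max 3 (bd (Fintype.card ι)) := by
  classical
  have := Fact.mk hp
  have key : ∀ K : Subgroup L, (K ∈ LocK L ∧ Cfsg.pCore p K = ⊥) → ∃ X : Subgroup L, normalizer (X : Set L) = K ∧
      X ∈ GenBy (max 3 (bd (Fintype.card ι))) L := by
    intro K hK
    obtain ⟨X, h1, h2, h3, h4⟩ := exists_key (M := K) hK.1.1 (by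
      intro Y hY hY0 b hb
      exact hK.1.2 Y hY hY0 (mem_normalizer_of hb))
    refine ⟨X, h1, genBy_of_char_simple m hg hp h3 h4 ?_ h60⟩
    intro hXp
    apply h3
    rw [eq_bot_iff]
    have h5 : X ≤ Op p K := le_Op hXp h2 (by
      intro k hk r hr
      rw [← h1] at hk
      exact (mem_normalizer_iff.1 hk r).1 hr)
    rw [Op, hK.2, Subgroup.map_bot] at h5
    exact h5
  choose! f hf1 hf2 using key
  have hinj : Set.InjOn f {K | K ∈ LocK L ∧ Cfsg.pCore p K = ⊥} := by
    intro K hK K' hK' e
    rw [← hf1 K hK, ← hf1 K' hK', e]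
  rw [← hinj.ncard_image]
  refine (Set.ncard_le_ncard ?_ (Set.toFinite _)).trans (ncard_genBy_le _ L)
  rintro _ ⟨K, hK, rfl⟩
  exact hf2 K hK

/-- **the number of the members of `LocK L`** -/
theorem ncard_locK_le' [Finite F] [Nonempty ι] [Finite L] (m : Model L S) (hg : TwoGen.{0}) {p : ℕ} (hp : p.Prime)
    [CharP F p] (h60 : bd (Fintype.card ι) ≤ 60) {k : ℕ} (hk : Fintype.card ι ≤ 2 * k) :
    (LocK L).ncard ≤ (2 * Nat.card F ^ (Fintype.card ι * k)) ^ (Fintype.card ι - 1) +
      Nat.card L ^ max 3 (bd (Fintype.card ι)) := by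
  have := Fact.mk hp
  have h1 : LocK L ⊆ LocP p L ∪ {K | K ∈ LocK L ∧ Cfsg.pCore p K = ⊥} := by
    intro K hK
    by_cases h : Cfsg.pCore p K = ⊥
    · exact Or.inr ⟨hK, h⟩
    · exact Or.inl ⟨hK, h⟩
  refine (Set.ncard_le_ncard h1 (Set.toFinite _)).trans ((Set.ncard_union_le _ _).trans (Nat.add_le_add ?_
    (ncard_locP'_le m hg hp h60)))
  refine (ncard_locP_le (F := F) (p := p) (dat m)).trans ?_
  rw [Module.finrank_fintype_fun_eq_card]
  refine Nat.pow_le_pow_left ?_ _
  refine (card_submodule_le (F := F) (V := ι → F) (m := k) (by rw [Module.finrank_fintype_fun_eq_card]; exact hk)).trans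
    (le_of_eq ?_)
  congr 1
  rw [Nat.card_pi, Finset.prod_const, Finset.card_univ, ← pow_mul]

end model

end Cfsg.Agent.H744.EP
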