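import Mathlib

/-!
# S3499: elementary abelian `s`-subgroups of projective groups, `s ≠ p` (helper744)

`index_le` : `G` finite, `ρ : G →* End_E(V)`, `E` algebraically closed, all `ρ(g)^s` and all commutators scalar, `s` a prime
`≠ char E`: the subgroup of the elements acting as scalars has index at most `s ^ bd (dim V)`, `bd n ≤ n`,
`bd 3 = 2`, `bd n = n - 1` for `n ≥ 5`.
-/

set_option autoImplicit false
set_option linter.unusedSectionVars false

namespace Cfsg.Agent.H744.EP

open Module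

/-! ### an index bound -/

theorem index_le_of_map {G : Type*} [Group G] (H : Subgroup G) {β : Type*} (f : G → β)
    (S : Finset β) (hf : ∀ g, f g ∈ S) (hinj : ∀ g h, f g = f h → g⁻¹ * h ∈ H) : H.index ≤ S.card := by
  have h1 : Nat.card (G ⧸ H) ≤ Nat.card S := by
    refine Nat.card_le_card_of_injective (fun c : G ⧸ H => (⟨f c.out, hf _⟩ : S)) ?_
    intro c d h
    have h2 : f c.out = f d.out := congrArg Subtype.val h
    have h3 := hinj _ _ h2
    rw [← QuotientGroup.out_eq' c, ← QuotientGroup.out_eq' d]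
    exact QuotientGroup.eq.2 h3
  rw [Nat.card_eq_finsetCard] at h1
  exact h1

/-! ### the bound -/

/-- `0, 2, 2, 4, 4, 5, 6, …` -/
def bd (n : ℕ) : ℕ := if n = 2 then 2 else if n = 4 then 4 else n - 1

theorem le_bd (n : ℕ) : n - 1 ≤ bd n := by
  unfold bd
  split_ifs <;> omega

theorem bd_mono {m n : ℕ} (h : m ≤ n) : bd m ≤ bd n := by
  unfold bd
  split_ifs <;> omega

theorem bd_half {m n : ℕ} (hm : 1 ≤ m) (h : 2 * m ≤ n) : 2 + bd m ≤ bd n := by
  unfold bd
  split_ifs <;> omega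

theorem bd_le (n : ℕ) : bd n ≤ n := by
  unfold bd
  split_ifs <;> omega

/-! ### representations -/

section Rep

variable {E : Type*} [Field E] {V : Type*} [AddCommGroup V] [Module E V] {G : Type*} [Group G]

theorem pow_apply_of {T : Module.End E V} {c : E} {v : V} (h : T v = c • v) (k : ℕ) : (T ^ k) v = c ^ k • v := by
  induction k with
  | zero => simp
  | succ k ih => rw [pow_succ, Module.End.mul_apply, h, map_smul, ih, smul_smul, pow_succ, mul_comm]

theorem inv_apply (ρ : G →* Module.End E V) (g : G) (v : V) : ρ g⁻¹ (ρ g v) = v := by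
  rw [← Module.End.mul_apply, ← map_mul, inv_mul_cancel, map_one, Module.End.one_apply]

theorem apply_inv (ρ : G →* Module.End E V) (g : G) (v : V) : ρ g (ρ g⁻¹ v) = v := by
  rw [← Module.End.mul_apply, ← map_mul, mul_inv_cancel, map_one, Module.End.one_apply]

theorem rep_injective (ρ : G →* Module.End E V) (g : G) : Function.Injective (ρ g) := fun v w h => by
  rw [← inv_apply ρ g v, h, inv_apply]

/-- the elements acting as scalars -/
def Sc (ρ : G →* Module.End E V) : Subgroup G where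
  carrier := {g | ∃ c : E, c ≠ 0 ∧ ∀ v, ρ g v = c • v}
  one_mem' := ⟨1, one_ne_zero, fun v => by rw [map_one, Module.End.one_apply, one_smul]⟩
  mul_mem' := by
    rintro a b ⟨c, hc, h1⟩ ⟨d, hd, h2⟩
    exact ⟨c * d, mul_ne_zero hc hd, fun v => by
      rw [map_mul, Module.End.mul_apply, h2, map_smul, h1, smul_smul, mul_comm]⟩
  inv_mem' := by
    rintro a ⟨c, hc, h1⟩
    refine ⟨c⁻¹, inv_ne_zero hc, fun v => ?_⟩
    have h2 := inv_apply ρ a v
    rw [h1, map_smul] at h2
    exact (eq_inv_smul_iff₀ hc).2 h2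

theorem mem_Sc {ρ : G →* Module.End E V} {g : G} : g ∈ Sc ρ ↔ ∃ c : E, c ≠ 0 ∧ ∀ v, ρ g v = c • v := Iff.rfl

/-- the representation on an invariant subspace -/
def rs (ρ : G →* Module.End E V) (W : Submodule E V) (hW : ∀ g, ∀ w ∈ W, ρ g w ∈ W) : G →* Module.End E W where
  toFun g := (ρ g).restrict (hW g)
  map_one' := by
    ext w
    simp
  map_mul' a b := by
    ext w
    simp

theorem rs_apply (ρ : G →* Module.End E V) (W : Submodule E V) (hW : ∀ g, ∀ w ∈ W, ρ g w ∈ W) (g : G) (w : W) :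
    ((rs ρ W hW g w : W) : V) = ρ g w := rfl

theorem rs_pow_apply (ρ : G →* Module.End E V) (W : Submodule E V) (hW : ∀ g, ∀ w ∈ W, ρ g w ∈ W) (g : G) (k : ℕ)
    (w : W) : (((rs ρ W hW g ^ k) w : W) : V) = (ρ g ^ k) w := by
  rw [← map_pow, ← map_pow]
  rfl

theorem index_sc_le {s : ℕ} (hs : 0 < s) (ρ : G →* Module.End E V) [Finite G] {W₁ W₂ : Submodule E V}
    (hc : IsCompl W₁ W₂) (h1 : ∀ g, ∀ w ∈ W₁, ρ g w ∈ W₁) (h2 : ∀ g, ∀ w ∈ W₂, ρ g w ∈ W₂) (hW1 : W₁ ≠ ⊥)
    (hW2 : W₂ ≠ ⊥) (hp : ∀ g, ∃ c : E, c ≠ 0 ∧ ∀ v, (ρ g ^ s) v = c • v) :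
    (Sc ρ).index ≤ s * ((Sc (rs ρ W₁ h1)).index * (Sc (rs ρ W₂ h2)).index) := by
  classical
  set K := Sc (rs ρ W₁ h1) ⊓ Sc (rs ρ W₂ h2) with hK
  have hle : Sc ρ ≤ K := by
    rintro g ⟨c, hc0, h⟩
    exact ⟨⟨c, hc0, fun v => Subtype.ext (h v)⟩, ⟨c, hc0, fun v => Subtype.ext (h v)⟩⟩
  rw [← Subgroup.relIndex_mul_index hle]
  refine Nat.mul_le_mul ?_ Subgroup.index_inf_le
  have hk1 : ∀ k : K, ∃ c : E, c ≠ 0 ∧ ∀ v : W₁, ρ (k : G) v = c • (v : V) := by
    intro k
    obtain ⟨c, hc0, h⟩ := k.2.1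
    exact ⟨c, hc0, fun v => congrArg Subtype.val (h v)⟩
  have hk2 : ∀ k : K, ∃ c : E, c ≠ 0 ∧ ∀ v : W₂, ρ (k : G) v = c • (v : V) := by
    intro k
    obtain ⟨c, hc0, h⟩ := k.2.2
    exact ⟨c, hc0, fun v => congrArg Subtype.val (h v)⟩
  choose c1 hc1 hv1 using hk1
  choose c2 hc2 hv2 using hk2
  have hcard : (Polynomial.nthRoots s (1 : E)).toFinset.card ≤ s :=
    (Multiset.toFinset_card_le _).trans (Polynomial.card_nthRoots s 1)
  refine le_trans ?_ hcard
  refine index_le_of_map _ (fun k => c1 k / c2 k) _ ?_ ?_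
  · intro k
    rw [Multiset.mem_toFinset, Polynomial.mem_nthRoots hs]
    obtain ⟨c, _, hv⟩ := hp (k : G)
    obtain ⟨w1, hw1, hw1'⟩ := Submodule.exists_mem_ne_zero_of_ne_bot hW1
    obtain ⟨w2, hw2, hw2'⟩ := Submodule.exists_mem_ne_zero_of_ne_bot hW2
    have e1 := pow_apply_of (hv1 k ⟨w1, hw1⟩) s
    have e2 := pow_apply_of (hv2 k ⟨w2, hw2⟩) s
    rw [hv] at e1 e2
    have e3 : c = c1 k ^ s := smul_left_injective E hw1' e1
    have e4 : c = c2 k ^ s := smul_left_injective E hw2' e2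
    rw [div_pow, ← e3, ← e4, div_self]
    rw [e4]
    exact pow_ne_zero _ (hc2 k)
  · intro g h he
    rw [Subgroup.mem_subgroupOf]
    have he' : c1 h / c1 g = c2 h / c2 g := by
      have h3 : c1 g / c2 g = c1 h / c2 h := he
      rw [div_eq_div_iff (hc2 g) (hc2 h)] at h3
      rw [div_eq_div_iff (hc1 g) (hc2 g), ← h3, mul_comm]
    have key : ∀ (w : V) (c d : E), c ≠ 0 → ρ (g : G) w = c • w → ρ (h : G) w = d • w →
        ρ ((g : G)⁻¹ * (h : G)) w = (d / c) • w := by
      intro w c d hc0 e1 e2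
      rw [map_mul, Module.End.mul_apply, e2, map_smul]
      have e3 : w = c • ρ (g : G)⁻¹ w := by
        rw [← map_smul, ← e1, inv_apply]
      have e4 : ρ (g : G)⁻¹ w = c⁻¹ • w := by
        conv_rhs => rw [e3]
        rw [smul_smul, inv_mul_cancel₀ hc0, one_smul]
      rw [e4, smul_smul, div_eq_mul_inv]
    refine ⟨c1 h / c1 g, div_ne_zero (hc1 h) (hc1 g), ?_⟩
    intro v
    have hv : v ∈ W₁ ⊔ W₂ := by rw [hc.sup_eq_top]; exact Submodule.mem_top
    obtain ⟨v1, hv1', v2, hv2', rfl⟩ := Submodule.mem_sup.1 hv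
    have e1 := key v1 _ _ (hc1 g) (hv1 g ⟨v1, hv1'⟩) (hv1 h ⟨v1, hv1'⟩)
    have e2 := key v2 _ _ (hc2 g) (hv2 g ⟨v2, hv2'⟩) (hv2 h ⟨v2, hv2'⟩)
    rw [← he'] at e2
    show ρ ((g : G)⁻¹ * (h : G)) (v1 + v2) = _
    rw [map_add, e1, e2, smul_add]

end Rep

section Alg

variable {E : Type*} [Field E] [IsAlgClosed E] {s : ℕ}

theorem iSup_eig {V : Type*} [AddCommGroup V] [Module E V] [FiniteDimensional E V] (hsE : (s : E) ≠ 0)
    {T : Module.End E V} {c : E} (hc : c ≠ 0) (hT : ∀ v, (T ^ s) v = c • v) : ⨆ μ, T.eigenspace μ = ⊤ := by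
  have hss : T.IsSemisimple := by
    refine Module.End.isSemisimple_of_squarefree_aeval_eq_zero
      (p := Polynomial.X ^ s - Polynomial.C c) (Polynomial.separable_X_pow_sub_C c hsE hc).squarefree ?_
    ext v
    rw [map_sub, map_pow, Polynomial.aeval_X, Polynomial.aeval_C, LinearMap.sub_apply, hT,
      Module.algebraMap_end_apply, sub_self, LinearMap.zero_apply]
  have h1 := T.iSup_maxGenEigenspace_eq_top
  rwa [iSup_congr fun μ => hss.isFinitelySemisimple.maxGenEigenspace_eq_eigenspace μ] at h1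

theorem exists_eig {V : Type*} [AddCommGroup V] [Module E V] [FiniteDimensional E V] {T : Module.End E V}
    (h : ⨆ μ, T.eigenspace μ = ⊤) (h0 : 0 < finrank E V) : ∃ μ, T.eigenspace μ ≠ ⊥ := by
  by_contra hcon
  push Not at hcon
  rw [iSup_congr hcon, iSup_bot] at h
  have := finrank_top E V
  rw [← h, finrank_bot] at this
  omega

theorem index_comm (hs : s.Prime) (hsE : (s : E) ≠ 0) {G : Type*} [Group G] [Finite G] : ∀ (n : ℕ) (V : Type*)
    [AddCommGroup V] [Module E V] [FiniteDimensional E V] (ρ : G →* Module.End E V), finrank E V = n → 0 < n →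
    (∀ g h, ρ g * ρ h = ρ h * ρ g) → (∀ g, ∃ c : E, c ≠ 0 ∧ ∀ v, (ρ g ^ s) v = c • v) →
    (Sc ρ).index ≤ s ^ (n - 1) := by
  intro n
  induction n using Nat.strong_induction_on with
  | _ n ih =>
    intro V _ _ _ ρ hn h0 hcomm hp
    by_cases hsc : ∀ g, g ∈ Sc ρ
    · have : Sc ρ = ⊤ := (Subgroup.eq_top_iff' _).2 hsc
      rw [this, Subgroup.index_top]
      exact Nat.one_le_pow _ _ hs.pos
    push Not at hsc
    obtain ⟨a, ha⟩ := hsc
    obtain ⟨c, hc0, hc⟩ := hp a
    have htop := iSup_eig hsE hc0 hc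
    obtain ⟨μ, hμ⟩ := exists_eig htop (by rw [hn]; exact h0)
    set W₁ := (ρ a).eigenspace μ with hW₁
    set W₂ := ⨆ (j) (_ : j ≠ μ), (ρ a).eigenspace j with hW₂
    have hcompl : IsCompl W₁ W₂ := by
      refine ⟨(Module.End.eigenspaces_iSupIndep (ρ a)) μ, ?_⟩
      rw [codisjoint_iff, eq_top_iff, ← htop]
      refine iSup_le fun j => ?_
      by_cases hj : j = μ
      · rw [hj]
        exact le_sup_left
      · exact le_sup_of_le_right (le_iSup₂_of_le j hj le_rfl)
    have hinvj : ∀ j g, ∀ w ∈ (ρ a).eigenspace j, ρ g w ∈ (ρ a).eigenspace j := by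
      intro j g w hw
      rw [Module.End.mem_eigenspace_iff] at hw ⊢
      rw [← Module.End.mul_apply, hcomm a g, Module.End.mul_apply, hw, map_smul]
    have h1 : ∀ g, ∀ w ∈ W₁, ρ g w ∈ W₁ := fun g w hw => hinvj μ g w hw
    have h2 : ∀ g, ∀ w ∈ W₂, ρ g w ∈ W₂ := by
      intro g
      have h3 : W₂ ≤ W₂.comap (ρ g) := by
        refine iSup₂_le fun j hj w hw => ?_
        have h4 : (ρ a).eigenspace j ≤ W₂ := le_iSup₂_of_le j hj le_rfl
        exact h4 (hinvj j g w hw)
      exact fun w hw => h3 hw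
    have hW2 : W₂ ≠ ⊥ := by
      intro e
      apply ha
      have h3 : W₁ = ⊤ := by
        have := hcompl.sup_eq_top
        rwa [e, sup_bot_eq] at this
      have hall : ∀ v, ρ a v = μ • v := fun v => by
        have : v ∈ W₁ := by rw [h3]; exact Submodule.mem_top
        exact Module.End.mem_eigenspace_iff.1 this
      refine ⟨μ, ?_, hall⟩
      rintro rfl
      obtain ⟨v, hv, hv0⟩ := Submodule.exists_mem_ne_zero_of_ne_bot hμ
      apply hv0
      apply rep_injective ρ a
      rw [hall, zero_smul, map_zero]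
    have hsum := Submodule.finrank_add_eq_of_isCompl hcompl
    have hpos1 : 0 < finrank E W₁ := by
      rw [Nat.pos_iff_ne_zero]
      exact fun e => hμ (Submodule.finrank_eq_zero.1 e)
    have hpos2 : 0 < finrank E W₂ := by
      rw [Nat.pos_iff_ne_zero]
      exact fun e => hW2 (Submodule.finrank_eq_zero.1 e)
    rw [hn] at hsum
    have hr : ∀ (W : Submodule E V) (hW : ∀ g, ∀ w ∈ W, ρ g w ∈ W), 0 < finrank E W → finrank E W < n →
        (Sc (rs ρ W hW)).index ≤ s ^ (finrank E W - 1) := by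
      intro W hW hW0 hWn
      refine ih _ hWn W (rs ρ W hW) rfl hW0 ?_ ?_
      · intro g h
        ext w
        exact congrArg (fun T : Module.End E V => T w) (hcomm g h)
      · intro g
        obtain ⟨c, hc0, hc⟩ := hp g
        exact ⟨c, hc0, fun w => Subtype.ext (by
          rw [rs_pow_apply, hc]
          rfl)⟩
    refine (index_sc_le hs.pos ρ hcompl h1 h2 hμ hW2 hp).trans ?_
    have h3 := hr W₁ h1 hpos1 (by omega)
    have h4 := hr W₂ h2 hpos2 (by omega)
    calc s * ((Sc (rs ρ W₁ h1)).index * (Sc (rs ρ W₂ h2)).index) ≤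
        s * (s ^ (finrank E W₁ - 1) * s ^ (finrank E W₂ - 1)) := Nat.mul_le_mul_left _ (Nat.mul_le_mul h3 h4)
      _ = s ^ (n - 1) := by
        rw [← pow_add, ← pow_succ']
        congr 1
        omega

/-- commutators are `s`-th roots of unity -/
theorem comm_pow {G : Type*} [Group G] {V : Type*} [AddCommGroup V] [Module E V] [FiniteDimensional E V]
    (h0 : 0 < finrank E V) (ρ : G →* Module.End E V) {g h : G} {c : E} (hc : ∀ v, ρ g (ρ h v) = c • ρ h (ρ g v))
    (hp : ∃ c : E, c ≠ 0 ∧ ∀ v, (ρ g ^ s) v = c • v) : c ^ s = 1 := by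
  obtain ⟨d, hd0, hd⟩ := hp
  have h1 : ∀ (k : ℕ) (v : V), (ρ g ^ k) (ρ h v) = c ^ k • ρ h ((ρ g ^ k) v) := by
    intro k
    induction k with
    | zero => intro v; simp
    | succ k ih =>
      intro v
      rw [pow_succ, Module.End.mul_apply, hc, map_smul, ih, smul_smul, pow_succ, mul_comm]
      rfl
  have : Nontrivial V := Module.finrank_pos_iff.1 h0
  obtain ⟨v, hv⟩ := exists_ne (0 : V)
  have h2 := h1 s v
  rw [hd, hd, map_smul, smul_smul] at h2
  have h3 : ρ h v ≠ 0 := fun e => hv (rep_injective ρ h (by rw [e, map_zero]))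
  have h4 : d = c ^ s * d := smul_left_injective E h3 h2
  have h5 : c ^ s * d = 1 * d := by rw [one_mul]; exact h4.symm
  exact mul_right_cancel₀ hd0 h5

theorem index_le (hs : s.Prime) (hsE : (s : E) ≠ 0) : ∀ (n : ℕ) (G : Type*) [Group G] [Finite G] (V : Type*)
    [AddCommGroup V] [Module E V] [FiniteDimensional E V] (ρ : G →* Module.End E V), finrank E V = n → 0 < n →
    (∀ g h, ∃ c : E, ∀ v, ρ g (ρ h v) = c • ρ h (ρ g v)) → (∀ g, ∃ c : E, c ≠ 0 ∧ ∀ v, (ρ g ^ s) v = c • v) →
    (Sc ρ).index ≤ s ^ bd n := by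
  classical
  intro n
  induction n using Nat.strong_induction_on with
  | _ n ih =>
    intro G _ _ V _ _ _ ρ hn h0 hc hp
    by_cases hcomm : ∀ g h, ρ g * ρ h = ρ h * ρ g
    · exact (index_comm hs hsE n V ρ hn h0 hcomm hp).trans (Nat.pow_le_pow_right hs.pos (le_bd n))
    push Not at hcomm
    obtain ⟨a, b, hab⟩ := hcomm
    obtain ⟨ζ, hζ⟩ := hc a b
    have hn0 : 0 < finrank E V := by rw [hn]; exact h0
    have hζs : ζ ^ s = 1 := comm_pow hn0 ρ hζ (hp a)
    have hζ1 : ζ ≠ 1 := by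
      rintro rfl
      apply hab
      ext v
      rw [Module.End.mul_apply, hζ, one_smul]
      rfl
    have hζ0 : ζ ≠ 0 := by
      rintro rfl
      rw [zero_pow hs.ne_zero] at hζs
      exact zero_ne_one hζs
    obtain ⟨c, hc0, hcv⟩ := hp a
    have htop := iSup_eig hsE hc0 hcv
    obtain ⟨μ, hμ⟩ := exists_eig htop hn0
    have hpow : ∀ ν, (ρ a).eigenspace ν ≠ ⊥ → ν ^ s = c := by
      intro ν hν
      obtain ⟨v, hv, hv0⟩ := Submodule.exists_mem_ne_zero_of_ne_bot hν
      have h1 := pow_apply_of (Module.End.mem_eigenspace_iff.1 hv) s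
      rw [hcv] at h1
      exact (smul_left_injective E hv0 h1).symm
    have hμs := hpow μ hμ
    have hμ0 : μ ≠ 0 := by
      rintro rfl
      rw [zero_pow hs.ne_zero] at hμs
      exact hc0 hμs.symm
    set V₁ := (ρ a).eigenspace μ with hV₁
    -- the dimension
    have hdim : 2 * finrank E V₁ ≤ n := by
      have hmap : V₁.map (ρ b) ≤ (ρ a).eigenspace (ζ * μ) := by
        rintro _ ⟨v, hv, rfl⟩
        rw [Module.End.mem_eigenspace_iff, hζ, Module.End.mem_eigenspace_iff.1 hv, map_smul, smul_smul]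
      have hdis : Disjoint V₁ (V₁.map (ρ b)) := by
        refine Disjoint.mono_right hmap ?_
        refine (Module.End.eigenspaces_iSupIndep (ρ a)).pairwiseDisjoint ?_
        intro e
        have h3 : 1 * μ = ζ * μ := by rw [one_mul]; exact e
        exact hζ1 (mul_right_cancel₀ hμ0 h3).symm
      have h1 := Submodule.finrank_add_finrank_le_of_disjoint hdis
      have h2 : finrank E (V₁.map (ρ b)) = finrank E V₁ :=
        (Submodule.equivMapOfInjective (ρ b) (rep_injective ρ b) V₁).finrank_eq.symm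
      rw [h2, hn] at h1
      omega
    have hpos : 1 ≤ finrank E V₁ := by
      rw [Nat.one_le_iff_ne_zero]
      exact fun e => hμ (Submodule.finrank_eq_zero.1 e)
    -- the subgroup commuting with `a` and `b`
    let G' : Subgroup G := (Subgroup.centralizer ({ρ.toHomUnits a, ρ.toHomUnits b} : Set (Module.End E V)ˣ)).comap
      ρ.toHomUnits
    have hG' : ∀ g, g ∈ G' ↔ (∀ v, ρ g (ρ a v) = ρ a (ρ g v)) ∧ ∀ v, ρ g (ρ b v) = ρ b (ρ g v) := by
      intro g
      show ρ.toHomUnits g ∈ Subgroup.centralizer _ ↔ _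
      rw [Subgroup.mem_centralizer_iff]
      have hx : ∀ x : G, (ρ.toHomUnits x * ρ.toHomUnits g = ρ.toHomUnits g * ρ.toHomUnits x) ↔
          ∀ v, ρ g (ρ x v) = ρ x (ρ g v) := by
        intro x
        rw [Units.ext_iff]
        show ρ x * ρ g = ρ g * ρ x ↔ _
        rw [LinearMap.ext_iff]
        exact forall_congr' fun v => eq_comm
      simp only [Set.mem_insert_iff, Set.mem_singleton_iff, forall_eq_or_imp, forall_eq, hx]
    have hG'i : G'.index ≤ s ^ 2 := by
      choose ca hca using fun g => hc g a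
      choose cb hcb using fun g => hc g b
      have hcard : (Polynomial.nthRoots s (1 : E)).toFinset.card ≤ s :=
        (Multiset.toFinset_card_le _).trans (Polynomial.card_nthRoots s 1)
      have h1 := index_le_of_map G' (fun g => (ca g, cb g))
        ((Polynomial.nthRoots s (1 : E)).toFinset ×ˢ (Polynomial.nthRoots s (1 : E)).toFinset) (by
          intro g
          rw [Finset.mem_product, Multiset.mem_toFinset, Multiset.mem_toFinset, Polynomial.mem_nthRoots hs.pos,
            Polynomial.mem_nthRoots hs.pos]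
          exact ⟨comm_pow hn0 ρ (hca g) (hp g), comm_pow hn0 ρ (hcb g) (hp g)⟩) (by
          intro g h e
          rw [Prod.mk.injEq] at e
          have key : ∀ (x : G) (c : E), c ^ s = 1 → (∀ v, ρ g (ρ x v) = c • ρ x (ρ g v)) →
              (∀ v, ρ h (ρ x v) = c • ρ x (ρ h v)) → ∀ v, ρ (g⁻¹ * h) (ρ x v) = ρ x (ρ (g⁻¹ * h) v) := by
            intro x c hcs h1 h2 v
            apply rep_injective ρ g
            rw [map_mul, Module.End.mul_apply, apply_inv, h2, Module.End.mul_apply, h1, apply_inv]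
          exact (hG' _).2 ⟨key a (ca g) (comm_pow hn0 ρ (hca g) (hp g)) (hca g) (by rw [e.1]; exact hca h),
            key b (cb g) (comm_pow hn0 ρ (hcb g) (hp g)) (hcb g) (by rw [e.2]; exact hcb h)⟩)
      refine h1.trans ?_
      rw [Finset.card_product, pow_two]
      exact Nat.mul_le_mul hcard hcard
    have hinv : ∀ g : G', ∀ w ∈ V₁, (ρ.comp G'.subtype) g w ∈ V₁ := by
      intro g w hw
      rw [hV₁, Module.End.mem_eigenspace_iff] at hw ⊢
      show ρ a (ρ (g : G) w) = μ • ρ (g : G) w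
      rw [← ((hG' g).1 g.2).1, hw, map_smul]
    have hi := ih (finrank E V₁) (by omega) G' V₁ (rs (ρ.comp G'.subtype) V₁ hinv) rfl hpos (by
      intro g h
      obtain ⟨c, hc⟩ := hc (g : G) (h : G)
      exact ⟨c, fun v => Subtype.ext (hc v)⟩) (by
      intro g
      obtain ⟨c, hc0, hc⟩ := hp (g : G)
      exact ⟨c, hc0, fun w => Subtype.ext (by
        rw [rs_pow_apply]
        exact hc w)⟩)
    have hle : (Sc (rs (ρ.comp G'.subtype) V₁ hinv)).map G'.subtype ≤ Sc ρ := by
      rintro _ ⟨g, ⟨d, hd0, hd⟩, rfl⟩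
      refine ⟨d, hd0, ?_⟩
      have hd' : ∀ v ∈ V₁, ρ (g : G) v = d • v := fun v hv => congrArg Subtype.val (hd ⟨v, hv⟩)
      have hstep : ∀ ν : E, (ρ a).eigenspace ν ≤ (ρ (g : G)).eigenspace d →
          (ρ a).eigenspace (ζ * ν) ≤ (ρ (g : G)).eigenspace d := by
        intro ν hν u hu
        have h1 : ρ b⁻¹ u ∈ (ρ a).eigenspace ν := by
          rw [Module.End.mem_eigenspace_iff] at hu ⊢
          apply rep_injective ρ b
          have h2 := hζ (ρ b⁻¹ u)
          rw [apply_inv, hu] at h2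
          have h3 : ζ • (ν • u) = ζ • ρ b (ρ a (ρ b⁻¹ u)) := by rw [smul_smul]; exact h2
          have h4 := smul_right_injective V hζ0 h3
          rw [← h4, map_smul, apply_inv]
        have h2 := Module.End.mem_eigenspace_iff.1 (hν h1)
        rw [Module.End.mem_eigenspace_iff]
        have h3 := ((hG' g).1 g.2).2 (ρ b⁻¹ u)
        rw [apply_inv, h2, map_smul, apply_inv] at h3
        exact h3
      have hall : ∀ j : ℕ, (ρ a).eigenspace (ζ ^ j * μ) ≤ (ρ (g : G)).eigenspace d := by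
        intro j
        induction j with
        | zero =>
          rw [pow_zero, one_mul]
          intro v hv
          rw [Module.End.mem_eigenspace_iff]
          exact hd' v hv
        | succ j ihj =>
          rw [pow_succ', mul_assoc]
          exact hstep _ ihj
      have hprim : IsPrimitiveRoot ζ s := by
        have := Fact.mk hs
        rw [← orderOf_eq_prime hζs hζ1]
        exact IsPrimitiveRoot.orderOf ζ
      have htop2 : (⊤ : Submodule E V) ≤ (ρ (g : G)).eigenspace d := by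
        rw [← htop]
        refine iSup_le fun ν => ?_
        by_cases hν : (ρ a).eigenspace ν = ⊥
        · rw [hν]
          exact bot_le
        have h1 := hpow ν hν
        have h2 : (ν / μ) ^ s = 1 := by rw [div_pow, h1, hμs, div_self hc0]
        have : NeZero s := ⟨hs.ne_zero⟩
        obtain ⟨j, _, hj⟩ := hprim.eq_pow_of_pow_eq_one h2
        have h3 : ν = ζ ^ j * μ := by rw [hj, div_mul_cancel₀ _ hμ0]
        rw [h3]
        exact hall j
      intro v
      exact Module.End.mem_eigenspace_iff.1 (htop2 (Submodule.mem_top (x := v)))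
    calc (Sc ρ).index ≤ ((Sc (rs (ρ.comp G'.subtype) V₁ hinv)).map G'.subtype).index := Subgroup.index_antitone hle
      _ = (Sc (rs (ρ.comp G'.subtype) V₁ hinv)).index * G'.index := Subgroup.index_map_subtype _
      _ ≤ s ^ bd (finrank E V₁) * s ^ 2 := Nat.mul_le_mul hi hG'i
      _ = s ^ (2 + bd (finrank E V₁)) := by rw [← pow_add, add_comm]
      _ ≤ _ := Nat.pow_le_pow_right hs.pos (bd_half hpos hdim)

end Alg

end Cfsg.Agent.H744.EP
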